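import Groth.Agent.GitSSLib.Gen

/-!
# Homogeneous coordinates for the semi-stable quotient
-/

set_option autoImplicit false
set_option backward.isDefEq.respectTransparency false
set_option backward.isDefEq.respectTransparency.types false
set_option linter.style.haveILetI false

noncomputable section

universe u

open CategoryTheory MonoidalCategory CartesianMonoidalCategory MonObj AlgebraicGeometry TopologicalSpace

namespace Groth.Agent.GitSS

attribute [-instance] CategoryTheory.Hom.commGroup

variable {k : Type u} [Field k] {G X : Over (Spec (CommRingCat.of k))} [GrpObj G] {a : AlgGrp.Action G X}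

/-- Invariant sections of one weight with affine nonvanishing loci, separating enough invariant functions. -/
structure Coords (B : GLinSh.LinBun G a) (U : X.left.Opens) where
  /-- The number of coordinates, less one. -/
  M : ℕ
  /-- Their weight. -/
  N : ℕ
  one_le : 1 ≤ N
  /-- The coordinates. -/
  F : Fin (M + 1) → Γ(B.V.left, ⊤)
  inv : ∀ i, B.IsInvSection N (F i)
  /-- Their nonvanishing loci. -/
  O : Fin (M + 1) → X.left.Opens
  eq : ∀ i, (O i : Set X.left) = GLinSh.nonvanishing B.π (F i)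
  affine : ∀ i, IsAffineOpen (O i)
  le : ∀ i, O i ≤ U
  /-- The generating ones. -/
  gen : Set (Fin (M + 1))
  cover : ∀ x ∈ U, ∃ i ∈ gen, x ∈ O i
  closure : ∀ i ∈ gen, ∀ h, InvOn a (O i) h → h ∈ Subring.closure (Set.range (cst (X := X) (O i)) ∪
    {r | ∃ j, B.π.left.app (O i) r * GLinSh.resTop B.π (O i) (F i) = GLinSh.resTop B.π (O i) (F j)})

/-- Coordinates exist on the semi-stable locus. -/
theorem exists_coords [IsAffineHom G.hom] [LocallyOfFiniteType X.hom] [QuasiCompact X.hom]
    {A : Type u} [CommRing A] [HopfAlgebra k A] (hA : HopfRep.IsLinearlyReductive k A)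
    (e : CoactBr.sp k A ≅ G) [IsMonHom e.hom] (B : GLinSh.LinBun G a) (U : X.left.Opens)
    (hU : (U : Set X.left) = B.ssLocus) : Nonempty (Coords B U) := by
  classical
  haveI : IsLocallyNoetherian X.left := LocallyOfFiniteType.isLocallyNoetherian X.hom
  haveI : CompactSpace X.left := QuasiCompact.compactSpace_of_compactSpace X.hom
  haveI : IsNoetherian X.left := ⟨⟩
  have hss : ∀ x : U, B.IsSemistablePt x.1 := fun x => by
    have h : x.1 ∈ (U : Set X.left) := x.2
    rw [hU] at h
    exact h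
  choose n f hn hf hx O hO haff using hss
  have hxO : ∀ x : U, x.1 ∈ O x := fun x => by rw [← SetLike.mem_coe, hO]; exact hx x
  obtain ⟨T, hT⟩ := (NoetherianSpace.isCompact (U : Set X.left)).elim_finite_subcover
    (fun x : U => (O x : Set X.left)) (fun x => (O x).2) fun x hx => Set.mem_iUnion.2 ⟨⟨x, hx⟩, hxO _⟩
  have hOU : ∀ x, O x ≤ U := fun x y hy => by
    rw [← SetLike.mem_coe, hU]
    exact ⟨n x, f x, hn x, hf x, by rw [← hO]; exact hy, O x, hO x, haff x⟩
  let N₀ := ∏ x : T, n x.1
  have hN₀ : 1 ≤ N₀ := Finset.one_le_prod' fun x _ => hn x.1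
  have hdvd : ∀ x : T, n x.1 ∣ N₀ := fun x => Finset.dvd_prod_of_mem (fun x : T => n x.1) (Finset.mem_univ x)
  let p : T → ℕ := fun x => N₀ / n x.1
  have hp : ∀ x, 0 < p x := fun x => Nat.div_pos (Nat.le_of_dvd hN₀ (hdvd x)) (hn x.1)
  let f₁ : T → Γ(B.V.left, ⊤) := fun x => f x.1 ^ p x
  have hf₁ : ∀ x, B.IsInvSection N₀ (f₁ x) := fun x => by
    have := isInvSection_pow (hf x.1) (p x)
    rwa [Nat.mul_div_cancel' (hdvd x)] at this
  have hO₁ : ∀ x : T, (O x.1 : Set X.left) = GLinSh.nonvanishing B.π (f₁ x) := fun x => by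
    rw [nonvanishing_pow _ (hp x)]; exact hO x.1
  choose Sg hSi hSc using fun x : T =>
    exists_generators (a := a) hA e (haff x.1) (invOpen_of_nonvanishing (hf₁ x) (hO₁ x))
  choose e₀ he₀ using fun p : Σ x : T, ↥(Sg x) => exists_extension (hf₁ p.1) (hO₁ p.1) (hSi p.1 p.2.1 p.2.2)
  let E := Finset.univ.sup e₀ + 1
  choose g hg hge hgle using fun p => he₀ p E ((Finset.le_sup (Finset.mem_univ p)).trans (Nat.le_succ _))
  let J := Option (T ⊕ Σ x : T, ↥(Sg x))
  let idx : J ≃ Fin (Fintype.card (T ⊕ Σ x : T, ↥(Sg x)) + 1) := Fintype.equivFinOfCardEq Fintype.card_option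
  let F₀ : J → Γ(B.V.left, ⊤)
    | none => 0
    | some (.inl x) => f₁ x ^ E
    | some (.inr p) => g p
  let O₀ : J → X.left.Opens
    | none => ⊥
    | some (.inl x) => O x.1
    | some (.inr p) => X.left.basicOpen (U := O p.1.1) p.2.1
  refine ⟨⟨_, N₀ * E, Nat.one_le_iff_ne_zero.2 (Nat.mul_ne_zero (by omega) (Nat.succ_ne_zero _)), F₀ ∘ idx.symm,
    fun i => ?_, O₀ ∘ idx.symm, fun i => ?_, fun i => ?_, fun i => ?_,
    Set.range (fun x : T => idx (some (.inl x))), fun x hx => ?_, ?_⟩⟩
  · dsimp only [Function.comp_apply]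
    rcases idx.symm i with _ | x | p
    · exact ⟨hasWeight_zero _, by show B.lift.act.left.appTop 0 = (snd G B.V).left.appTop 0; rw [map_zero, map_zero]⟩
    · exact isInvSection_pow (hf₁ x) E
    · exact hg p
  · dsimp only [Function.comp_apply]
    rcases idx.symm i with _ | x | p
    · show ((⊥ : X.left.Opens) : Set X.left) = GLinSh.nonvanishing B.π 0
      rw [GLinSh.nonvanishing, Scheme.basicOpen_zero]
      simp
    · show (O x.1 : Set X.left) = GLinSh.nonvanishing B.π (f₁ x ^ E)
      rw [nonvanishing_pow _ (Nat.succ_pos _)]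
      exact hO₁ x
    · show ((X.left.basicOpen (U := O p.1.1) p.2.1 : X.left.Opens) : Set X.left) = GLinSh.nonvanishing B.π (g p)
      have hsub : (O p.1.1 : Set X.left) ⊆ GLinSh.nonvanishing B.π (f₁ p.1 ^ E) := by
        rw [nonvanishing_pow _ (Nat.succ_pos _)]; exact (hO₁ p.1).subset
      ext y
      constructor
      · intro hy
        exact (mem_nonvanishing_iff_of_ratio B (hasWeight_pow (hf₁ p.1).1 E) hsub (hge p) (X.left.basicOpen_le _ hy)).2 hy
      · intro hy
        exact (mem_nonvanishing_iff_of_ratio B (hasWeight_pow (hf₁ p.1).1 E) hsub (hge p)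
          (by rw [← SetLike.mem_coe, hO₁]; exact hgle p hy)).1 hy
  · dsimp only [Function.comp_apply]
    rcases idx.symm i with _ | x | p
    · exact isAffineOpen_bot X.left
    · exact haff x.1
    · exact (haff p.1.1).basicOpen _
  · dsimp only [Function.comp_apply]
    rcases idx.symm i with _ | x | p
    · exact bot_le
    · exact hOU x.1
    · exact (X.left.basicOpen_le _).trans (hOU p.1.1)
  · obtain ⟨y, hy, hxy⟩ := Set.mem_iUnion₂.1 (hT hx)
    exact ⟨_, ⟨⟨y, hy⟩, rfl⟩, by simpa [O₀] using hxy⟩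
  · rintro i ⟨x, rfl⟩
    have key : ∀ j : J, j = some (.inl x) → ∀ h, InvOn a (O₀ j) h →
        h ∈ Subring.closure (Set.range (cst (X := X) (O₀ j)) ∪
          {r | ∃ i, B.π.left.app (O₀ j) r * GLinSh.resTop B.π (O₀ j) (F₀ j) =
            GLinSh.resTop B.π (O₀ j) (F₀ (idx.symm i))}) := by
      rintro _ rfl h hh
      refine Subring.closure_mono (Set.union_subset_union_right _ fun r hr => ?_) (hSc x h hh)
      refine ⟨idx (some (.inr ⟨x, ⟨r, hr⟩⟩)), ?_⟩
      rw [Equiv.symm_apply_apply]
      exact hge ⟨x, ⟨r, hr⟩⟩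
    exact key _ (idx.symm_apply_apply _)

end Groth.Agent.GitSS
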