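import Groth.Agent.GitSSLib.Inv

/-!
# Extending invariant functions to invariant sections
-/

set_option autoImplicit false
set_option backward.isDefEq.respectTransparency false
set_option backward.isDefEq.respectTransparency.types false
set_option linter.style.haveILetI false

noncomputable section

universe u

open CategoryTheory MonoidalCategory CartesianMonoidalCategory MonObj AlgebraicGeometry TopologicalSpace

namespace Groth.Agent.GitSS

attribute [-instance] CategoryTheory.Hom.commGroup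

variable {S : Scheme.{u}} {G X : Over S} [GrpObj G] {a : AlgGrp.Action G X} {B : GLinSh.LinBun G a}

/-- The coordinate is a nonzerodivisor. -/
theorem Chart.cancel_pow {W : X.left.Opens} {y : Γ(B.V.left, B.π.left ⁻¹ᵁ W)} (hy : Chart B W y) {m : ℕ}
    {z z' : Γ(B.V.left, B.π.left ⁻¹ᵁ W)} (h : y ^ m * z = y ^ m * z') : z = z' := by
  obtain ⟨p, rfl⟩ := hy.bijective.2 z
  obtain ⟨p', rfl⟩ := hy.bijective.2 z'
  refine congrArg _ (Chart.cancel.mul_left_injective₀' m (hy.bijective.1 ?_))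
  simp only [Polynomial.coe_eval₂RingHom, Polynomial.eval₂_mul, Polynomial.eval₂_X_pow] at h ⊢
  rw [_root_.mul_comm, h, _root_.mul_comm]

/-- What an extension looks like in a chart. -/
theorem chart_extension {n e r : ℕ} {f : Γ(B.V.left, ⊤)} {O : X.left.Opens} {h : Γ(X.left, O)}
    (hD : B.V.left.basicOpen f ≤ B.π.left ⁻¹ᵁ O) {z : Γ(B.V.left, ⊤)}
    (hz : B.V.left.presheaf.map (homOfLE (le_top : B.V.left.basicOpen f ≤ ⊤)).op z =
      B.V.left.presheaf.map (homOfLE (le_top : B.V.left.basicOpen f ≤ ⊤)).op f ^ e *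
        B.π.left.appLE O (B.V.left.basicOpen f) hD h)
    {W : X.left.Opens} {y : Γ(B.V.left, B.π.left ⁻¹ᵁ W)} (hy : Chart B W y) {c b : Γ(X.left, W)}
    (hc : GLinSh.resTop B.π W f = B.π.left.app W c * y ^ n) (hDO : X.left.basicOpen c ≤ O)
    (hb : X.left.presheaf.map (homOfLE hDO).op h * X.left.presheaf.map (homOfLE (X.left.basicOpen_le c)).op c ^ r =
      X.left.presheaf.map (homOfLE (X.left.basicOpen_le c)).op b) :
    ∃ s : ℕ, B.π.left.app W (c ^ (s + r)) * GLinSh.resTop B.π W z =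
      B.π.left.app W (c ^ (s + e) * b) * y ^ (n * e) := by
  haveI : IsAffineHom B.π.left := B.atlas.affine
  have hV : IsAffineOpen (B.π.left ⁻¹ᵁ W) := IsAffineOpen.preimage hy.affine B.π.left
  let F := GLinSh.resTop B.π W f
  let E := B.V.left.basicOpen F
  have hEf : E ≤ B.V.left.basicOpen f := by
    rw [show E = _ from Scheme.basicOpen_res _ _ _]; exact inf_le_right
  have hEW : E ≤ B.π.left ⁻¹ᵁ W := B.V.left.basicOpen_le F
  have hEc : E ≤ B.π.left ⁻¹ᵁ X.left.basicOpen c := by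
    show B.V.left.basicOpen F ≤ _
    rw [show F = _ from hc, Scheme.basicOpen_mul, ← Scheme.preimage_basicOpen]
    exact inf_le_left
  let ρ : Γ(B.V.left, B.π.left ⁻¹ᵁ W) →+* Γ(B.V.left, E) := (B.V.left.presheaf.map (homOfLE hEW).op).hom
  have hρ : ∀ w : Γ(X.left, W), ρ (B.π.left.app W w) =
      B.π.left.appLE (X.left.basicOpen c) E hEc (X.left.presheaf.map (homOfLE (X.left.basicOpen_le c)).op w) := by
    intro w
    simp only [ρ, ← CommRingCat.comp_apply]
    rw [Scheme.Hom.map_appLE, Scheme.Hom.app_eq_appLE, Scheme.Hom.appLE_map]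
  have hρf : ρ F = B.V.left.presheaf.map (homOfLE hEf).op
      (B.V.left.presheaf.map (homOfLE (le_top : B.V.left.basicOpen f ≤ ⊤)).op f) := by
    simp only [ρ, F, GLinSh.resTop, ← CommRingCat.comp_apply, ← Functor.map_comp]
    rfl
  have hρz : ρ (GLinSh.resTop B.π W z) = ρ F ^ e *
      B.π.left.appLE (X.left.basicOpen c) E hEc (X.left.presheaf.map (homOfLE hDO).op h) := by
    have := congrArg (B.V.left.presheaf.map (homOfLE hEf).op) hz
    rw [map_mul, map_pow, ← hρf] at this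
    refine (Eq.trans ?_ (this.trans ?_))
    · simp only [ρ, GLinSh.resTop, ← CommRingCat.comp_apply, ← Functor.map_comp]
      rfl
    · congr 1
      rw [← CommRingCat.comp_apply, ← CommRingCat.comp_apply, Scheme.Hom.appLE_map, Scheme.Hom.map_appLE]
  have heq : ρ (B.π.left.app W (c ^ r) * GLinSh.resTop B.π W z) = ρ (F ^ e * B.π.left.app W b) := by
    rw [map_mul, map_mul, hρ, hρ, hρz, ← hb]
    simp only [map_mul, map_pow]
    ring
  haveI := hV.isLocalization_basicOpen F
  obtain ⟨⟨_, s, rfl⟩, hs⟩ := IsLocalization.exists_of_eq (M := Submonoid.powers F) (S := Γ(B.V.left, E)) heq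
  refine ⟨s, hy.cancel_pow (m := n * s) ?_⟩
  change F ^ s * _ = F ^ s * _ at hs
  rw [show F = _ from hc] at hs
  simp only [map_mul, map_pow, pow_add, pow_mul, mul_pow] at hs ⊢
  linear_combination hs

/-- An invariant function on the nonvanishing locus times a power of the section extends. -/
theorem exists_extension [IsAffineHom G.hom] [CompactSpace X.left] [QuasiSeparatedSpace X.left] {n : ℕ}
    {f : Γ(B.V.left, ⊤)} (hf : B.IsInvSection n f) {O : X.left.Opens}
    (hO : (O : Set X.left) = GLinSh.nonvanishing B.π f) {h : Γ(X.left, O)} (hh : InvOn a O h) :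
    ∃ e₀ : ℕ, ∀ e, e₀ ≤ e → ∃ g : Γ(B.V.left, ⊤), B.IsInvSection (n * e) g ∧
      B.π.left.app O h * GLinSh.resTop B.π O (f ^ e) = GLinSh.resTop B.π O g ∧
      GLinSh.nonvanishing B.π g ⊆ GLinSh.nonvanishing B.π f := by
  classical
  haveI : IsAffineHom B.π.left := B.atlas.affine
  haveI : CompactSpace B.V.left := QuasiCompact.compactSpace_of_compactSpace B.π.left
  haveI : QuasiSeparatedSpace B.V.left := quasiSeparatedSpace_of_quasiSeparated B.π.left
  haveI : IsAffineHom (snd G B.V).left := show IsAffineHom (Limits.pullback.snd G.hom B.V.hom) from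
    MorphismProperty.pullback_snd _ _ inferInstance
  haveI : CompactSpace (G ⊗ B.V).left := QuasiCompact.compactSpace_of_compactSpace (snd G B.V).left
  have hD : B.V.left.basicOpen f ≤ B.π.left ⁻¹ᵁ O := fun v hv => by
    show B.π.left v ∈ O
    rw [← SetLike.mem_coe, hO]
    exact ⟨v, hv, rfl⟩
  obtain ⟨e, z, hz⟩ := exists_eq_pow_mul_of_isCompact_of_isQuasiSeparated B.V.left ⊤ isCompact_univ
    isQuasiSeparated_univ f (B.π.left.appLE O (B.V.left.basicOpen f) hD h)
  simp only [TopCat.Presheaf.restrictOpenCommRingCat_apply] at hz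
  replace hz : B.V.left.presheaf.map (homOfLE (le_top : B.V.left.basicOpen f ≤ ⊤)).op z =
      B.V.left.presheaf.map (homOfLE (le_top : B.V.left.basicOpen f ≤ ⊤)).op f ^ e *
        B.π.left.appLE O (B.V.left.basicOpen f) hD h := hz
  have hch : ∀ x : X.left, ∃ (W : X.left.Opens) (y : Γ(B.V.left, B.π.left ⁻¹ᵁ W)), x ∈ W ∧ Chart B W y ∧
      ∃ m₀, ∀ m, m₀ ≤ m → ∃ d, GLinSh.resTop B.π W (z * f ^ m) = B.π.left.app W d * y ^ (n * (e + m)) := by
    intro x
    obtain ⟨W, y, hxW, -, hy⟩ := exists_chart B (O := ⊤) (x := x) trivial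
    obtain ⟨c, hc⟩ := weight_chart hf.1 hy
    have hDO : X.left.basicOpen c ≤ O := fun w hw => by
      rw [← SetLike.mem_coe, hO]
      exact (mem_nonvanishing_iff hy hc (X.left.basicOpen_le c hw)).2 hw
    haveI := IsAffineOpen.isLocalization_basicOpen hy.affine c
    obtain ⟨⟨b, _, r, rfl⟩, hb⟩ := IsLocalization.surj (M := Submonoid.powers c)
      (X.left.presheaf.map (homOfLE hDO).op h)
    obtain ⟨s, hs⟩ := chart_extension hD hz hy hc hDO (b := b) (r := r) (by
      rw [← map_pow]; exact hb)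
    refine ⟨W, y, hxW, hy, s + r, fun m hm => ⟨c ^ (m - (s + r) + (s + e)) * b, ?_⟩⟩
    obtain ⟨j, rfl⟩ := Nat.exists_eq_add_of_le hm
    rw [Nat.add_sub_cancel_left, resTop_mul, show GLinSh.resTop B.π W (f ^ (s + r + j)) =
      GLinSh.resTop B.π W f ^ (s + r + j) from map_pow _ _ _, hc]
    simp only [map_mul, map_pow, mul_pow, pow_add, pow_mul] at hs ⊢
    linear_combination (B.π.left.app W c ^ j * (y ^ n) ^ s * (y ^ n) ^ r * (y ^ n) ^ j) * hs
  choose W y hxW hy m₀ hm₀ using hch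
  obtain ⟨T, hT⟩ := isCompact_univ.elim_finite_subcover (fun x : X.left => (W x : Set X.left)) (fun x => (W x).2)
    fun x _ => Set.mem_iUnion.2 ⟨x, hxW x⟩
  let m := T.sup m₀
  have hwt : GLinSh.HasWeight B.atlas.chart (n * (e + m)) (z * f ^ m) := hasWeight_of_charts B fun x => by
    obtain ⟨i, hi, hxi⟩ := Set.mem_iUnion₂.1 (hT (Set.mem_univ x))
    exact ⟨W i, y i, hxi, hy i, hm₀ i m (Finset.le_sup hi)⟩
  have hOg : B.π.left.app O h * GLinSh.resTop B.π O (f ^ (e + m)) = GLinSh.resTop B.π O (z * f ^ m) := by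
    refine B.V.left.sheaf.eq_of_locally_eq'
      (fun p : {W : X.left.Opens // W ≤ O ∧ ∃ y, Chart B W y} => B.π.left ⁻¹ᵁ p.1) (B.π.left ⁻¹ᵁ O)
      (fun p => homOfLE (B.π.left.preimage_mono p.2.1)) (fun v hv => ?_) _ _ fun p => ?_
    · obtain ⟨W, y, hvW, hWO, hy⟩ := exists_chart B (show B.π.left v ∈ O from hv)
      exact Opens.mem_iSup.2 ⟨⟨W, hWO, y, hy⟩, hvW⟩
    · obtain ⟨W, hWO, y, hy⟩ := p
      show GLinSh.res B.π hWO _ = GLinSh.res B.π hWO _
      obtain ⟨c, hc⟩ := weight_chart hf.1 hy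
      have hu := isUnit_coeff hy hc fun w hw => by rw [← hO]; exact hWO hw
      obtain ⟨s, hs⟩ := chart_extension hD hz hy hc ((X.left.basicOpen_le c).trans hWO)
        (b := X.left.presheaf.map (homOfLE hWO).op h) (r := 0) (by
          rw [pow_zero, _root_.mul_one, ← CommRingCat.comp_apply, ← Functor.map_comp]; rfl)
      rw [res_mul, res_resTop, res_resTop, res_app, resTop_mul,
        show GLinSh.resTop B.π W (f ^ (e + m)) = GLinSh.resTop B.π W f ^ (e + m) from map_pow _ _ _,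
        show GLinSh.resTop B.π W (f ^ m) = GLinSh.resTop B.π W f ^ m from map_pow _ _ _, hc]
      refine ((hu.pow s).map (B.π.left.app W).hom).mul_right_injective ?_
      simp only [map_mul, map_pow, mul_pow, pow_add, pow_mul, pow_zero, _root_.mul_one] at hs ⊢
      linear_combination (-(B.π.left.app W c ^ m) * (y ^ n) ^ m) * hs
  let g₂ := z * f ^ m
  let sf := (snd G B.V).left.appTop f
  let E := (G ⊗ B.V).left.basicOpen sf
  have hl : (G ◁ B.π).left ≫ a.act.left = B.lift.act.left ≫ B.π.left := (congrArg CommaMorphism.left B.lift_π).symm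
  have hs' : (G ◁ B.π).left ≫ (snd G X).left = (snd G B.V).left ≫ B.π.left :=
    congrArg CommaMorphism.left (whiskerLeft_snd G B.π)
  have hEq : ∀ (q : (G ⊗ B.V).left ⟶ B.V.left), q.appTop f = sf → E ≤ q ⁻¹ᵁ (B.π.left ⁻¹ᵁ O) := fun q hq v hv => by
    have hv' : v ∈ q ⁻¹ᵁ B.V.left.basicOpen f := by rw [Scheme.preimage_basicOpen_top, hq]; exact hv
    exact hD hv'
  have hfi : B.lift.act.left.appTop f = sf := hf.2
  have hEa := hEq B.lift.act.left hfi
  have hEs := hEq (snd G B.V).left rfl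
  have hval : ∀ (q : (G ⊗ B.V).left ⟶ B.V.left) (hq : E ≤ q ⁻¹ᵁ (B.π.left ⁻¹ᵁ O)), q.appTop f = sf →
      (G ⊗ B.V).left.presheaf.map (homOfLE le_top).op (q.appTop g₂) =
        (q ≫ B.π.left).appLE O E hq h * (G ⊗ B.V).left.presheaf.map (homOfLE le_top).op (sf ^ (e + m)) := by
    intro q hq hqf
    have h := congrArg (q.appLE (B.π.left ⁻¹ᵁ O) E hq) hOg.symm
    rw [map_mul] at h
    simp only [GLinSh.resTop, ← CommRingCat.comp_apply, Scheme.Hom.map_appLE] at h
    rw [← Scheme.Hom.comp_appLE] at h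
    rw [← hqf, ← map_pow]
    simp only [Scheme.Hom.appTop, Scheme.Hom.app_eq_appLE, ← CommRingCat.comp_apply, Scheme.Hom.appLE_map]
    exact h
  let P : (G ⊗ X).left.Opens := a.act.left ⁻¹ᵁ O ⊓ (snd G X).left ⁻¹ᵁ O
  have hEP : E ≤ (G ◁ B.π).left ⁻¹ᵁ P := fun v hv => by
    refine ⟨?_, ?_⟩
    · show a.act.left ((G ◁ B.π).left v) ∈ O
      rw [← Scheme.Hom.comp_apply, hl]; exact hEa hv
    · show (snd G X).left ((G ◁ B.π).left v) ∈ O
      rw [← Scheme.Hom.comp_apply, hs']; exact hEs hv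
  have hpull : (B.lift.act.left ≫ B.π.left).appLE O E hEa h = ((snd G B.V).left ≫ B.π.left).appLE O E hEs h :=
    (appLE_of_comp (G ◁ B.π).left a.act.left inf_le_left hEP h _ hl hEa).symm.trans
      ((congrArg _ (hh.appLE P inf_le_left inf_le_right)).trans
        (appLE_of_comp (G ◁ B.π).left (snd G X).left inf_le_right hEP h _ hs' hEs))
  obtain ⟨t, ht⟩ := exists_pow_mul_eq_zero_of_res_basicOpen_eq_zero_of_isCompact (G ⊗ B.V).left
    (U := ⊤) isCompact_univ (B.lift.act.left.appTop g₂ - (snd G B.V).left.appTop g₂) sf (by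
      show (G ⊗ B.V).left.presheaf.map (homOfLE le_top).op _ = 0
      rw [map_sub, hval _ hEa hfi, hval _ hEs rfl, hpull, sub_self])
  refine ⟨e + m + t + 1, fun j hj => ?_⟩
  obtain ⟨j', rfl⟩ := Nat.exists_eq_add_of_le hj
  refine ⟨g₂ * f ^ (t + (j' + 1)), ⟨?_, ?_⟩, ?_, ?_⟩
  · have := hasWeight_mul hwt (hasWeight_pow hf.1 (t + (j' + 1)))
    rwa [← Nat.mul_add, show e + m + (t + (j' + 1)) = e + m + t + 1 + j' by omega] at this
  · show B.lift.act.left.appTop (g₂ * f ^ (t + (j' + 1))) = (snd G B.V).left.appTop (g₂ * f ^ (t + (j' + 1)))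
    rw [map_mul _ g₂, map_mul _ g₂, map_pow, map_pow, hfi]
    change B.lift.act.left.appTop g₂ * sf ^ (t + (j' + 1)) = (snd G B.V).left.appTop g₂ * sf ^ (t + (j' + 1))
    rw [pow_add]
    linear_combination sf ^ (j' + 1) * ht
  · rw [show f ^ (e + m + t + 1 + j') = f ^ (e + m) * f ^ (t + (j' + 1)) by rw [← pow_add]; congr 1; omega,
      resTop_mul, resTop_mul, ← _root_.mul_assoc, hOg]
  · rintro _ ⟨v, hv, rfl⟩
    rw [Scheme.basicOpen_mul, Scheme.basicOpen_pow _ _ (by omega : 0 < t + (j' + 1))] at hv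
    exact ⟨v, hv.2, rfl⟩

end Groth.Agent.GitSS
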