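import Groth.Agent.GitSSLib.Sections
import Mathlib.GroupTheory.CosetCover

/-!
# One invariant section for finitely many semi-stable points
-/

set_option autoImplicit false
set_option backward.isDefEq.respectTransparency false
set_option backward.isDefEq.respectTransparency.types false
set_option linter.style.haveILetI false

noncomputable section

universe u

open CategoryTheory MonoidalCategory CartesianMonoidalCategory MonObj AlgebraicGeometry TopologicalSpace

namespace Groth.Agent.GitSS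

section General

variable {S : Scheme.{u}} {G X : Over S} [GrpObj G] {a : AlgGrp.Action G X} (B : GLinSh.LinBun G a)

/-- Where a section is `ρ` times a nowhere vanishing one, its nonvanishing locus is that of `ρ`. -/
theorem mem_nonvanishing_iff_of_ratio {n : ℕ} {f g : Γ(B.V.left, ⊤)} (hf : GLinSh.HasWeight B.atlas.chart n f)
    {O : X.left.Opens} (hO : (O : Set X.left) ⊆ GLinSh.nonvanishing B.π f) {ρ : Γ(X.left, O)}
    (hρ : B.π.left.app O ρ * GLinSh.resTop B.π O f = GLinSh.resTop B.π O g) {x : X.left} (hx : x ∈ O) :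
    x ∈ GLinSh.nonvanishing B.π g ↔ x ∈ X.left.basicOpen ρ := by
  obtain ⟨W, y, hxW, hWO, hy⟩ := exists_chart B hx
  obtain ⟨c, hc⟩ := weight_chart hf hy
  have h := congrArg (GLinSh.res B.π hWO) hρ
  rw [res_mul, res_resTop, res_resTop, res_app, hc, ← _root_.mul_assoc, ← map_mul] at h
  rw [mem_nonvanishing_iff hy h.symm hxW, Scheme.basicOpen_mul,
    Scheme.basicOpen_of_isUnit _ (isUnit_coeff hy hc fun z hz => hO (hWO hz))]
  show x ∈ X.left.basicOpen (X.left.presheaf.map (homOfLE hWO).op ρ) ∧ x ∈ W ↔ _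
  rw [Scheme.basicOpen_res]
  exact ⟨fun h => h.1.2, fun h => ⟨⟨hxW, h⟩, hxW⟩⟩

/-- Orbits closed in the invariant pieces are closed in an invariant open inside their union. -/
theorem closedOrbitsOn_of_cover {J : Type*} (U : X.left.Opens) (V : J → X.left.Opens)
    (hcov : ∀ x ∈ U, ∃ j, x ∈ V j) (hV : ∀ j, GLinSh.ClosedOrbitsOn a (V j))
    (hU : ∀ z, a.act.left z ∈ U ↔ (snd G X).left z ∈ U)
    (hVi : ∀ j z, a.act.left z ∈ V j ↔ (snd G X).left z ∈ V j) :
    GLinSh.ClosedOrbitsOn a U := by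
  intro Ω _ _ T eT f hf
  haveI : Subsingleton ↥T.left := (Scheme.homeoOfIso eT).toEquiv.subsingleton
  let O : (X ⊗ T).left.Opens := (fst X T).left ⁻¹ᵁ U
  let P := Set.range (GIT.psi a f).left.base
  let t₀ : T.left := (Scheme.homeoOfIso eT).symm (IsLocalRing.closedPoint Ω)
  rw [← closure_subset_iff_isClosed]
  intro z hz
  obtain ⟨j, hj⟩ := hcov _ z.2
  have hz' : (z : (X ⊗ T).left) ∈ closure P := continuous_subtype_val.closure_preimage_subset P hz
  have hw : ∀ w, (fst X T).left ((GIT.psi a f).left w) = a.act.left ((G ◁ f).left w) ∧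
      (snd G X).left ((G ◁ f).left w) = f.left ((snd G T).left w) := fun w => by
    constructor
    · rw [← Scheme.Hom.comp_apply, ← Over.comp_left, GIT.psi, lift_fst, Over.comp_left, Scheme.Hom.comp_apply]
    · rw [← Scheme.Hom.comp_apply, ← Over.comp_left, whiskerLeft_snd, Over.comp_left, Scheme.Hom.comp_apply]
  by_cases hfj : f.left t₀ ∈ V j
  · have hcl := hV j Ω T eT f (by
      rintro _ ⟨t, rfl⟩
      rw [Subsingleton.elim t t₀]; exact hfj)
    let W : (X ⊗ T).left.Opens := (fst X T).left ⁻¹ᵁ V j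
    have hmem : (⟨z.1, hj⟩ : W) ∈ closure ((fun p : W => (p : (X ⊗ T).left)) ⁻¹' P) := by
      exact (W.2.isOpenEmbedding_subtypeVal.isOpenMap.preimage_closure_eq_closure_preimage
        continuous_subtype_val P).le hz'
    exact hcl.closure_eq.subset hmem
  · exfalso
    obtain ⟨q, hq, w, rfl⟩ := mem_closure_iff.1 hz' ((fst X T).left ⁻¹ᵁ V j) ((fst X T).left ⁻¹ᵁ V j).2 hj
    change (fst X T).left ((GIT.psi a f).left w) ∈ V j at hq
    rw [(hw w).1, hVi, (hw w).2, Subsingleton.elim ((snd G T).left w) t₀] at hq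
    exact hfj hq

end General

variable {k : Type u} [Field k] {G X : Over (Spec (CommRingCat.of k))} [GrpObj G] {a : AlgGrp.Action G X}
  (B : GLinSh.LinBun G a)

/-- Constants. -/
def cst (U : X.left.Opens) : k →+* Γ(X.left, U) :=
  ((Scheme.ΓSpecIso (CommRingCat.of k)).inv ≫ X.hom.appLE ⊤ U le_top).hom

theorem res_cst {U W : X.left.Opens} (h : W ≤ U) (c : k) :
    X.left.presheaf.map (homOfLE h).op (cst (X := X) U c) = cst W c := by
  simp only [cst, CommRingCat.hom_comp, RingHom.comp_apply]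
  rw [← CommRingCat.comp_apply, Scheme.Hom.appLE_map]

/-- Constant functions on the total space are invariant. -/
theorem isInvFn_cst (c : k) : GLinSh.IsInvFn B.lift (B.π.left.app ⊤ (cst ⊤ c)) := by
  have h : ∀ (q : G ⊗ B.V ⟶ B.V), q.left.appTop (B.π.left.app ⊤ (cst ⊤ c)) =
      (G ⊗ B.V).hom.appTop ((Scheme.ΓSpecIso (CommRingCat.of k)).inv c) := by
    intro q
    show q.left.appTop (B.π.left.appTop (X.hom.appLE ⊤ ⊤ le_top ((Scheme.ΓSpecIso (CommRingCat.of k)).inv c))) = _
    rw [show X.hom.appLE ⊤ ⊤ le_top = X.hom.appTop from (Scheme.Hom.app_eq_appLE _).symm, ← CommRingCat.comp_apply,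
      ← CommRingCat.comp_apply, ← Scheme.Hom.comp_appTop, ← Scheme.Hom.comp_appTop, Category.assoc, Over.w B.π, Over.w q]
  exact (h _).trans (h _).symm

/-- A linear combination of invariant sections of one weight. -/
def comb {m : ℕ} (F : Fin m → Γ(B.V.left, ⊤)) (c : Fin m → k) : Γ(B.V.left, ⊤) :=
  ∑ j, B.π.left.appTop (cst ⊤ (c j)) * F j

theorem isInvSection_comb {m N : ℕ} (F : Fin m → Γ(B.V.left, ⊤)) (hF : ∀ j, B.IsInvSection N (F j)) (c : Fin m → k) :
    B.IsInvSection N (comb B F c) := by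
  refine ⟨Finset.sum_induction _ _ (fun _ _ => hasWeight_add) (hasWeight_zero N) fun j _ => ?_, ?_⟩
  · simpa using hasWeight_mul (hasWeight_base (B := B) (cst ⊤ (c j))) (hF j).1
  · show B.lift.act.left.appTop _ = (snd G B.V).left.appTop _
    simp only [comb, map_sum, map_mul]
    exact Finset.sum_congr rfl fun j _ => congrArg₂ (· * ·) (isInvFn_cst B (c j)) (hF j).2

theorem resTop_comb {m : ℕ} (F : Fin m → Γ(B.V.left, ⊤)) (c : Fin m → k) (U : X.left.Opens) :
    GLinSh.resTop B.π U (comb B F c) = ∑ j, B.π.left.app U (cst U (c j)) * GLinSh.resTop B.π U (F j) := by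
  rw [comb, GLinSh.resTop, map_sum]
  refine Finset.sum_congr rfl fun j _ => ?_
  rw [map_mul]
  congr 1
  exact (res_app B (le_top : U ≤ ⊤) _).trans (by rw [res_cst])

/-- Finitely many semi-stable points are semi-stable through one section. -/
theorem exists_section_at_finset [Infinite k] (s : Finset X.left) (hs : ∀ x ∈ s, B.IsSemistablePt x) :
    ∃ (n : ℕ) (f : Γ(B.V.left, ⊤)) (Uf : X.left.Opens), 1 ≤ n ∧ B.IsInvSection n f ∧
      (Uf : Set X.left) = GLinSh.nonvanishing B.π f ∧ IsAffineOpen Uf ∧ (∀ x ∈ s, x ∈ Uf) ∧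
      ((∀ x ∈ s, B.IsStablePt x) → GLinSh.ClosedOrbitsOn a Uf) := by
  classical
  have h : ∀ x : s, ∃ (n : ℕ) (f : Γ(B.V.left, ⊤)) (U : X.left.Opens), 1 ≤ n ∧ B.IsInvSection n f ∧
      (U : Set X.left) = GLinSh.nonvanishing B.π f ∧ IsAffineOpen U ∧ x.1 ∈ U ∧
      ((∀ x ∈ s, B.IsStablePt x) → GLinSh.ClosedOrbitsOn a U) := by
    intro x
    by_cases hst : ∀ x ∈ s, B.IsStablePt x
    · obtain ⟨n, f, hn, hf, hx, U, hU, hUa, hcl⟩ := hst x x.2
      exact ⟨n, f, U, hn, hf, hU, hUa, by rw [← SetLike.mem_coe, hU]; exact hx, fun _ => hcl⟩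
    · obtain ⟨n, f, hn, hf, hx, U, hU, hUa⟩ := hs x x.2
      exact ⟨n, f, U, hn, hf, hU, hUa, by rw [← SetLike.mem_coe, hU]; exact hx, fun h => (hst h).elim⟩
  choose n f U hn hf hU hUa hxU hcl using h
  let e := Fintype.equivFin ↥s
  let m := Fintype.card ↥s
  let N := ∏ x : s, n x
  have hN : 1 ≤ N := Finset.one_le_prod' fun x _ => hn x
  let F : Fin m → Γ(B.V.left, ⊤) := fun j => f (e.symm j) ^ (N / n (e.symm j))
  let V : Fin m → X.left.Opens := fun j => U (e.symm j)
  have hdvd : ∀ x : s, n x ∣ N := fun x => Finset.dvd_prod_of_mem n (Finset.mem_univ x)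
  have hF : ∀ j, B.IsInvSection N (F j) := fun j => by
    have := isInvSection_pow (hf (e.symm j)) (N / n (e.symm j))
    rwa [Nat.mul_div_cancel' (hdvd _)] at this
  have hVF : ∀ j, (V j : Set X.left) = GLinSh.nonvanishing B.π (F j) := fun j => by
    rw [nonvanishing_pow _ (Nat.div_pos (Nat.le_of_dvd hN (hdvd _)) (hn _))]
    exact hU _
  have hr : ∀ i j, ∃ r : Γ(X.left, V i),
      B.π.left.app (V i) r * GLinSh.resTop B.π (V i) (F i) = GLinSh.resTop B.π (V i) (F j) :=
    fun i j => exists_ratio (hF i).1 (hF j).1 (hVF i).subset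
  choose r hr using hr
  let ρ : (Fin m → k) → (i : Fin m) → Γ(X.left, V i) := fun c i => ∑ j, cst (V i) (c j) * r i j
  have hρ : ∀ c i, B.π.left.app (V i) (ρ c i) * GLinSh.resTop B.π (V i) (F i) =
      GLinSh.resTop B.π (V i) (comb B F c) := fun c i => by
    rw [resTop_comb, map_sum, Finset.sum_mul]
    exact Finset.sum_congr rfl fun j _ => by rw [map_mul, _root_.mul_assoc, hr]
  let bad : s → Subspace k (Fin m → k) := fun x =>
    { carrier := {c | x.1 ∉ X.left.basicOpen (ρ c (e x))}
      add_mem' := fun {c d} hc hd h => by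
        have hadd : ρ (c + d) (e x) = ρ c (e x) + ρ d (e x) := by
          simp only [ρ, Pi.add_apply, map_add, add_mul, Finset.sum_add_distrib]
        have hx : x.1 ∈ V (e x) := by simp [V, hxU]
        rw [hadd, Scheme.mem_basicOpen _ _ _ hx, map_add] at h
        rcases IsLocalRing.isUnit_or_isUnit_of_isUnit_add h with h' | h'
        · exact hc ((Scheme.mem_basicOpen _ _ _ hx).2 h')
        · exact hd ((Scheme.mem_basicOpen _ _ _ hx).2 h')
      zero_mem' := by simp [ρ]
      smul_mem' := fun t c hc h => by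
        have hmul : ρ (t • c) (e x) = cst (V (e x)) t * ρ c (e x) := by
          simp only [ρ, Pi.smul_apply, smul_eq_mul, map_mul, Finset.mul_sum, _root_.mul_assoc]
        rw [hmul, Scheme.basicOpen_mul] at h
        exact hc h.2 }
  have hbad : ∀ x, bad x ≠ ⊤ := fun x htop => by
    have hc : (Pi.single (e x) 1 : Fin m → k) ∈ bad x := htop ▸ trivial
    refine hc ?_
    have h1 : r (e x) (e x) = 1 := eq_of_mul_eq (hF (e x)).1 (hVF _).subset (by
      rw [hr, map_one, _root_.one_mul])
    have h2 : ρ (Pi.single (e x) 1) (e x) = 1 := by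
      simp only [ρ]
      rw [Finset.sum_eq_single (e x) (fun j _ hj => by rw [Pi.single_eq_of_ne hj, map_zero, zero_mul])
        (fun hj => absurd (Finset.mem_univ _) hj), Pi.single_eq_same, map_one, _root_.one_mul, h1]
    rw [h2, Scheme.basicOpen_of_isUnit _ isUnit_one]
    simp [V, hxU]
  obtain ⟨c, hc⟩ : ∃ c, ∀ x : s, x.1 ∈ X.left.basicOpen (ρ c (e x)) := by
    by_contra hne
    push Not at hne
    obtain ⟨x, hx⟩ := Subspace.exists_eq_top_of_iUnion_eq_univ (p := bad)
      (Set.eq_univ_of_forall fun c => Set.mem_iUnion.2 (hne c))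
    exact hbad x hx
  let g := comb B F c
  have hg := isInvSection_comb B F hF c
  let Uf := nv hg.1
  have hcovU : ∀ x ∈ Uf, ∃ j, x ∈ V j := by
    rintro _ ⟨v, hv, rfl⟩
    by_contra hne
    push Not at hne
    have hv' : IsUnit (B.V.left.presheaf.germ ⊤ v (show v ∈ (⊤ : B.V.left.Opens) from trivial) g) := (Scheme.mem_basicOpen _ _ _ (show v ∈ (⊤ : B.V.left.Opens) from trivial)).1 hv
    simp only [g, comb, map_sum, map_mul] at hv'
    obtain ⟨j, -, hj⟩ : ∃ j ∈ Finset.univ, IsUnit ((B.V.left.presheaf.germ ⊤ v (show v ∈ (⊤ : B.V.left.Opens) from trivial) (B.π.left.appTop (cst ⊤ (c j)))) *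
        B.V.left.presheaf.germ ⊤ v (show v ∈ (⊤ : B.V.left.Opens) from trivial) (F j)) := by
      by_contra hno
      push Not at hno
      exact Finset.sum_induction _ (fun z => ¬ IsUnit z)
        (fun a b ha hb hab => (IsLocalRing.isUnit_or_isUnit_of_isUnit_add hab).elim ha hb)
        not_isUnit_zero hno hv'
    refine hne j ?_
    rw [← SetLike.mem_coe, hVF]
    exact ⟨v, (Scheme.mem_basicOpen _ _ _ (show v ∈ (⊤ : B.V.left.Opens) from trivial)).2 (isUnit_of_mul_isUnit_right hj), rfl⟩
  have haff : IsAffineOpen Uf := by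
    have hq : ∀ j, ∃ q : Γ(X.left, Uf), B.π.left.app Uf q * GLinSh.resTop B.π Uf g = GLinSh.resTop B.π Uf (F j) :=
      fun j => exists_ratio hg.1 (hF j).1 subset_rfl
    choose q hq using hq
    refine isAffineOpen_of_isAffineOpen_basicOpen Uf (Set.range q) ?_ ?_
    · rw [Ideal.eq_top_iff_one]
      have h1 : ∑ j, cst Uf (c j) * q j = 1 := by
        refine eq_of_mul_eq hg.1 (O := Uf) subset_rfl ?_
        rw [map_sum, Finset.sum_mul, map_one, _root_.one_mul]
        trans ∑ j, B.π.left.app Uf (cst Uf (c j)) * GLinSh.resTop B.π Uf (F j)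
        · exact Finset.sum_congr rfl fun j _ => by rw [map_mul, _root_.mul_assoc, hq]
        · exact (resTop_comb B F c Uf).symm
      rw [← h1]
      exact Ideal.sum_mem _ fun j _ => Ideal.mul_mem_left _ _ (Ideal.subset_span ⟨j, rfl⟩)
    · rintro _ ⟨j, rfl⟩
      have he : X.left.basicOpen (q j) = X.left.basicOpen (ρ c j) := by
        refine TopologicalSpace.Opens.ext (Set.ext fun x => ?_)
        constructor
        · intro hx
          have hxU := X.left.basicOpen_le _ hx
          have hxj : x ∈ V j := by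
            rw [← SetLike.mem_coe, hVF]
            exact (mem_nonvanishing_iff_of_ratio B hg.1 subset_rfl (hq j) hxU).2 hx
          exact (mem_nonvanishing_iff_of_ratio B (hF j).1 (hVF j).subset (hρ c j) hxj).1 hxU
        · intro hx
          have hxj := X.left.basicOpen_le _ hx
          have hxU : x ∈ Uf := (mem_nonvanishing_iff_of_ratio B (hF j).1 (hVF j).subset (hρ c j) hxj).2 hx
          exact (mem_nonvanishing_iff_of_ratio B hg.1 subset_rfl (hq j) hxU).1 ((hVF j).subset hxj)
      rw [he]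
      exact IsAffineOpen.basicOpen (hUa _) _
  refine ⟨N, g, Uf, hN, hg, rfl, haff, fun x hx => ?_, fun hst => ?_⟩
  · have hxj : x ∈ V (e ⟨x, hx⟩) := by simp [V, hxU ⟨x, hx⟩]
    exact (mem_nonvanishing_iff_of_ratio B (hF _).1 (hVF _).subset (hρ c _) hxj).2 (hc ⟨x, hx⟩)
  · refine closedOrbitsOn_of_cover Uf V hcovU (fun j => hcl _ hst) (fun z => act_mem_nonvanishing_iff hg.2 z)
      fun j z => ?_
    rw [← SetLike.mem_coe, ← SetLike.mem_coe, hVF]
    exact act_mem_nonvanishing_iff (hF j).2 z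

end Groth.Agent.GitSS
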