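import Groth.Agent.GitSSLib.Ext
import Groth.Agent.GitSSLib.Finset
import Groth.Agent.RedQuotLib.Main

/-!
# The invariant functions on an invariant affine open are finitely generated
-/

set_option autoImplicit false
set_option backward.isDefEq.respectTransparency false
set_option backward.isDefEq.respectTransparency.types false
set_option linter.style.haveILetI false

noncomputable section

universe u

open CategoryTheory MonoidalCategory CartesianMonoidalCategory MonObj AlgebraicGeometry TopologicalSpace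

namespace Groth.Agent.GitSS

attribute [-instance] CategoryTheory.Hom.commGroup

variable {k : Type u} [Field k] {G X : Over (Spec (CommRingCat.of k))} [GrpObj G] {a : AlgGrp.Action G X}

/-- A linear combination of constants is natural. -/
theorem appLE_cst {Z : Scheme.{u}} (q : Z ⟶ X.left) (O : X.left.Opens) (P : Z.Opens) (h : P ≤ q ⁻¹ᵁ O) (c : k) :
    q.appLE O P h (cst O c) = Z.presheaf.map (homOfLE le_top).op
      ((q ≫ X.hom).appTop ((Scheme.ΓSpecIso (CommRingCat.of k)).inv c)) := by
  have e : X.hom.appLE ⊤ O le_top ≫ q.appLE O P h = (q ≫ X.hom).appTop ≫ Z.presheaf.map (homOfLE le_top).op := by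
    rw [Scheme.Hom.appLE_comp_appLE, Scheme.Hom.appTop, Scheme.Hom.app_eq_appLE, Scheme.Hom.appLE_map]
  exact congr($e ((Scheme.ΓSpecIso (CommRingCat.of k)).inv c))

/-- The invariant functions are generated by finitely many over the constants. -/
theorem exists_generators {A : Type u} [CommRing A] [HopfAlgebra k A] (hA : HopfRep.IsLinearlyReductive k A)
    (e : CoactBr.sp k A ≅ G) [IsMonHom e.hom] [LocallyOfFiniteType X.hom] {O : X.left.Opens} (hO : IsAffineOpen O)
    (hi : InvOpen a O) :
    ∃ S : Finset Γ(X.left, O), (∀ h ∈ S, InvOn a O h) ∧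
      ∀ h, InvOn a O h → h ∈ Subring.closure (Set.range (cst (X := X) O) ∪ (S : Set Γ(X.left, O))) := by
  classical
  obtain ⟨a', ha'⟩ := exists_restrict a hi
  haveI : IsAffine (Over.mk (O.ι ≫ X.hom)).left := hO
  obtain ⟨Y, φ, hYa, hinj, hrange, -, -, -, -, hft⟩ := RedQuot.exists_quotient hA e a'
  haveI : LocallyOfFiniteType (Over.mk (O.ι ≫ X.hom)).hom :=
    inferInstanceAs (LocallyOfFiniteType (O.ι ≫ X.hom))
  haveI := hft inferInstance
  have hψ : ((Scheme.ΓSpecIso (CommRingCat.of k)).inv ≫ Y.hom.appTop).hom.FiniteType :=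
    ((HasRingHomProperty.iff_of_isAffine (P := @LocallyOfFiniteType)).1 (inferInstanceAs (LocallyOfFiniteType Y.hom))).comp
      (RingHom.FiniteType.of_surjective _
        (ConcreteCategory.bijective_of_isIso (Scheme.ΓSpecIso (CommRingCat.of k)).inv).2)
  letI := ((Scheme.ΓSpecIso (CommRingCat.of k)).inv ≫ Y.hom.appTop).hom.toAlgebra
  obtain ⟨T, hT⟩ := (show Algebra.FiniteType k Γ(Y.left, ⊤) from hψ).out
  let ι' := O.ι.appLE O ⊤ (Scheme.Opens.ι_preimage_self O).ge
  have hbij : Function.Bijective ι' := RedQuot.bijective_ι_appLE O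
  let L := RingEquiv.ofBijective ι'.hom hbij
  let ψ : Γ(Y.left, ⊤) →+* Γ(X.left, O) := L.symm.toRingHom.comp φ.left.appTop.hom
  have hψi : ∀ s, InvOn a O (ψ s) := fun s => by
    rw [invOn_iff a' ha']
    have : ι' (ψ s) = φ.left.appTop s := L.apply_symm_apply _
    rw [this]
    exact (Set.ext_iff.1 hrange _).1 ⟨s, rfl⟩
  refine ⟨T.image ψ, fun h hh => ?_, fun h hh => ?_⟩
  · obtain ⟨s, -, rfl⟩ := Finset.mem_image.1 hh
    exact hψi s
  · obtain ⟨s, hs⟩ := (Set.ext_iff.1 hrange _).2 ((invOn_iff a' ha' h).1 hh)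
    have hs' : ψ s = h := L.injective ((L.apply_symm_apply _).trans hs)
    rw [← hs']
    have hmem : s ∈ Algebra.adjoin k (T : Set Γ(Y.left, ⊤)) := hT ▸ Algebra.mem_top
    refine Algebra.adjoin_induction (fun x hx => ?_) (fun c => ?_) (fun x y _ _ hx hy => ?_)
      (fun x y _ _ hx hy => ?_) hmem
    · exact Subring.subset_closure (Or.inr (by simpa using Finset.mem_image_of_mem ψ hx))
    · refine Subring.subset_closure (Or.inl ⟨c, L.injective ?_⟩)
      rw [show L (ψ (algebraMap k _ c)) = φ.left.appTop (algebraMap k _ c) from L.apply_symm_apply _]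
      show ι' (cst O c) = φ.left.appTop (Y.hom.appTop ((Scheme.ΓSpecIso (CommRingCat.of k)).inv c))
      rw [appLE_cst, ← CommRingCat.comp_apply (g := φ.left.appTop), ← Scheme.Hom.comp_appTop, Over.w φ]
      exact congr($((Scheme.Opens.toScheme O).presheaf.map_id (Opposite.op ⊤)) _)
    · rw [map_add]; exact Subring.add_mem _ hx hy
    · rw [map_mul]; exact Subring.mul_mem _ hx hy

end Groth.Agent.GitSS
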