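import Groth.Agent.GitSSLib.Sections
import Groth.Agent.RedQuotLib.Global
import Groth.Agent.PropActLib.Torsor

/-!
# Invariant functions on opens and ratios of invariant sections
-/

set_option autoImplicit false
set_option backward.isDefEq.respectTransparency false
set_option backward.isDefEq.respectTransparency.types false
set_option linter.style.haveILetI false

noncomputable section

universe u

open CategoryTheory MonoidalCategory CartesianMonoidalCategory MonObj AlgebraicGeometry TopologicalSpace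

namespace Groth.Agent.GitSS

attribute [-instance] CategoryTheory.Hom.commGroup

/-- A function is a unit below its nonvanishing locus. -/
theorem isUnit_res_of_le {Z : Scheme.{u}} {U W : Z.Opens} (f : Γ(Z, U)) (h : W ≤ U) (h' : W ≤ Z.basicOpen f) :
    IsUnit (Z.presheaf.map (homOfLE h).op f) := by
  have h1 := (RingedSpace.isUnit_res_basicOpen Z.toRingedSpace f).map (Z.presheaf.map (homOfLE h').op).hom
  have h2 : Z.presheaf.map (homOfLE h').op (Z.presheaf.map (homOfLE (Z.basicOpen_le f)).op f) =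
      Z.presheaf.map (homOfLE h).op f := by
    rw [← ConcreteCategory.comp_apply, ← Functor.map_comp]
    rfl
  exact h2 ▸ h1

/-- Pullbacks compose. -/
theorem appLE_of_comp {A B C : Scheme.{u}} (i : A ⟶ B) (q : B ⟶ C) {O : C.Opens} {P : B.Opens} {W : A.Opens}
    (h1 : P ≤ q ⁻¹ᵁ O) (h2 : W ≤ i ⁻¹ᵁ P) (r : Γ(C, O)) (e : A ⟶ C) (he : i ≫ q = e) (h3 : W ≤ e ⁻¹ᵁ O) :
    i.appLE P W h2 (q.appLE O P h1 r) = e.appLE O W h3 r := by
  subst he
  rw [← CommRingCat.comp_apply, Scheme.Hom.appLE_comp_appLE]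

section General

variable {S : Scheme.{u}} {G X : Over S} [GrpObj G] (a : AlgGrp.Action G X)

/-- An open is invariant. -/
def InvOpen (O : X.left.Opens) : Prop := ∀ z : (G ⊗ X).left, a.act.left z ∈ O ↔ (snd G X).left z ∈ O

/-- An invariant function on an open. -/
def InvOn (O : X.left.Opens) (h : Γ(X.left, O)) : Prop :=
  a.act.left.appLE O (a.act.left ⁻¹ᵁ O ⊓ (snd G X).left ⁻¹ᵁ O) inf_le_left h =
    (snd G X).left.appLE O (a.act.left ⁻¹ᵁ O ⊓ (snd G X).left ⁻¹ᵁ O) inf_le_right h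

variable {a}

theorem InvOn.appLE {O : X.left.Opens} {h : Γ(X.left, O)} (hh : InvOn a O h) (P : (G ⊗ X).left.Opens)
    (h1 : P ≤ a.act.left ⁻¹ᵁ O) (h2 : P ≤ (snd G X).left ⁻¹ᵁ O) :
    a.act.left.appLE O P h1 h = (snd G X).left.appLE O P h2 h := by
  have e := congrArg ((G ⊗ X).left.presheaf.map (homOfLE (le_inf h1 h2)).op) hh
  rw [← CommRingCat.comp_apply, ← CommRingCat.comp_apply, Scheme.Hom.appLE_map, Scheme.Hom.appLE_map] at e
  exact e

/-- The inclusion of an open. -/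
abbrev jO (O : X.left.Opens) : Over.mk (O.ι ≫ X.hom) ⟶ X := Over.homMk O.ι rfl

instance isOpenImmersion_whiskerLeft_jO (O : X.left.Opens) : IsOpenImmersion (G ◁ jO O).left :=
  MorphismProperty.of_isPullback ((RedQuot.isPullback_whiskerLeft (G := G) (jO O)).map (Over.forget _)).flip
    (inferInstanceAs (IsOpenImmersion O.ι))

theorem le_opensRange_whiskerLeft {O : X.left.Opens} {P : (G ⊗ X).left.Opens} (h : P ≤ (snd G X).left ⁻¹ᵁ O) :
    P ≤ (G ◁ jO O).left.opensRange := fun z hz => by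
  obtain ⟨z', hz', -⟩ := RedQuot.exists_point_of_isPullback
    ((RedQuot.isPullback_whiskerLeft (G := G) (jO O)).map (Over.forget _)) z ⟨(snd G X).left z, h hz⟩ rfl
  exact ⟨z', hz'⟩

variable (a) in
/-- The action on an invariant open. -/
theorem exists_restrict {O : X.left.Opens} (hO : InvOpen a O) :
    ∃ a' : AlgGrp.Action G (Over.mk (O.ι ≫ X.hom)), a'.act ≫ jO O = (G ◁ jO O) ≫ a.act := by
  have hr : Set.range ((G ◁ jO O) ≫ a.act).left ⊆ Set.range O.ι := by
    rintro _ ⟨z, rfl⟩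
    rw [Scheme.Opens.range_ι, SetLike.mem_coe, Over.comp_left, Scheme.Hom.comp_apply, hO, ← Scheme.Hom.comp_apply,
      ← Over.comp_left, whiskerLeft_snd]
    exact ((snd G (Over.mk (O.ι ≫ X.hom))).left z).2
  let act' : G ⊗ Over.mk (O.ι ≫ X.hom) ⟶ Over.mk (O.ι ≫ X.hom) :=
    Over.homMk (IsOpenImmersion.lift O.ι ((G ◁ jO O) ≫ a.act).left hr) (by
      show _ ≫ O.ι ≫ X.hom = _
      rw [IsOpenImmersion.lift_fac_assoc, Over.w])
  have h1 : act' ≫ jO O = (G ◁ jO O) ≫ a.act := Over.OverMorphism.ext (IsOpenImmersion.lift_fac _ _ _)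
  haveI : Mono (jO O).left := inferInstanceAs (Mono O.ι)
  haveI : Mono (jO O) := Over.mono_of_mono_left _
  refine ⟨⟨act', ?_, ?_⟩, h1⟩
  · rw [← cancel_mono (jO O), Category.assoc, h1, ← whisker_exchange_assoc, a.one_act, leftUnitor_naturality]
  · rw [← cancel_mono (jO O)]
    simp only [Category.assoc, h1]
    rw [← whisker_exchange_assoc, a.mul_act, associator_naturality_right_assoc]
    simp only [← MonoidalCategory.whiskerLeft_comp_assoc, h1]

/-- Invariant functions on an invariant open are those of the restricted action. -/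
theorem invOn_iff {O : X.left.Opens} (a' : AlgGrp.Action G (Over.mk (O.ι ≫ X.hom)))
    (ha' : a'.act ≫ jO O = (G ◁ jO O) ≫ a.act) (h : Γ(X.left, O)) :
    InvOn a O h ↔ a'.act.left.appTop (O.ι.appLE O ⊤ (Scheme.Opens.ι_preimage_self O).ge h) =
      (snd G (Over.mk (O.ι ≫ X.hom))).left.appTop (O.ι.appLE O ⊤ (Scheme.Opens.ι_preimage_self O).ge h) := by
  let P : (G ⊗ X).left.Opens := a.act.left ⁻¹ᵁ O ⊓ (snd G X).left ⁻¹ᵁ O
  let iW := (G ◁ jO O).left
  have h1' : iW ≫ a.act.left = a'.act.left ≫ O.ι := (congrArg CommaMorphism.left ha').symm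
  have h2' : iW ≫ (snd G X).left = (snd G (Over.mk (O.ι ≫ X.hom))).left ≫ O.ι :=
    congrArg CommaMorphism.left (whiskerLeft_snd G (jO O))
  have hw : (⊤ : (G ⊗ Over.mk (O.ι ≫ X.hom)).left.Opens) ≤ iW ⁻¹ᵁ P := by
    intro z _
    refine ⟨?_, ?_⟩
    · show a.act.left (iW z) ∈ O
      rw [← Scheme.Hom.comp_apply, h1']; exact (a'.act.left z).2
    · show (snd G X).left (iW z) ∈ O
      rw [← Scheme.Hom.comp_apply, h2']; exact ((snd G (Over.mk (O.ι ≫ X.hom))).left z).2
  have key : ∀ (q : (G ⊗ X).left ⟶ X.left) (p : (G ⊗ Over.mk (O.ι ≫ X.hom)).left ⟶ O.toScheme)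
      (hq : P ≤ q ⁻¹ᵁ O), iW ≫ q = p ≫ O.ι →
      p.appTop (O.ι.appLE O ⊤ (Scheme.Opens.ι_preimage_self O).ge h) = iW.appLE P ⊤ hw (q.appLE O P hq h) := by
    intro q p hq e
    rw [RedQuot.appTop_eq_appLE]
    simp only [← CommRingCat.comp_apply, Scheme.Hom.appLE_comp_appLE]
    exact congr($(GitQuot.appLE_congr e.symm _ _) h)
  show a.act.left.appLE O P inf_le_left h = (snd G X).left.appLE O P inf_le_right h ↔ _
  constructor
  · intro hh
    exact (key a.act.left a'.act.left inf_le_left h1').trans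
      ((congrArg (iW.appLE P ⊤ hw) hh).trans (key (snd G X).left _ inf_le_right h2').symm)
  · intro hh
    exact (GitTorsor.bijective_appLE iW (le_opensRange_whiskerLeft inf_le_right) (le_antisymm hw le_top)).1
      ((key a.act.left a'.act.left inf_le_left h1').symm.trans (hh.trans (key (snd G X).left _ inf_le_right h2')))

end General

section Ratio

variable {S : Scheme.{u}} {G X : Over S} [GrpObj G] {a : AlgGrp.Action G X} {B : GLinSh.LinBun G a}

/-- A chart has a section avoiding the zero section. -/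
theorem Chart.exists_section {W : X.left.Opens} {y : Γ(B.V.left, B.π.left ⁻¹ᵁ W)} (hy : Chart B W y) :
    ∃ s : Over.mk (W.ι ≫ X.hom) ⟶ B.V, s ≫ B.π = jO W ∧ ∀ w, s.left w ∈ B.V.left.basicOpen y := by
  haveI : IsAffineHom B.π.left := B.atlas.affine
  have hV : IsAffineOpen (B.π.left ⁻¹ᵁ W) := IsAffineOpen.preimage hy.affine B.π.left
  let e := RingEquiv.ofBijective _ hy.bijective
  let ev : Γ(B.V.left, B.π.left ⁻¹ᵁ W) →+* Γ(X.left, W) := (Polynomial.evalRingHom 1).comp e.symm.toRingHom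
  have hevc : ∀ r, ev (B.π.left.app W r) = r := fun r => by
    have : e.symm (B.π.left.app W r) = Polynomial.C r := by rw [RingEquiv.symm_apply_eq]; simp [e]
    simp [ev, this]
  have hevy : ev y = 1 := by
    have : e.symm y = Polynomial.X := by rw [RingEquiv.symm_apply_eq]; simp [e]
    simp [ev, this]
  let s₀ : W.toScheme ⟶ B.V.left := W.toSpecΓ ≫ Spec.map (CommRingCat.ofHom ev) ≫ hV.fromSpec
  have hs : s₀ ≫ B.π.left = W.ι := by
    simp only [s₀, Category.assoc]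
    rw [← IsAffineOpen.SpecMap_appLE_fromSpec B.π.left hy.affine hV le_rfl, ← Spec.map_comp_assoc]
    rw [show B.π.left.appLE W (B.π.left ⁻¹ᵁ W) le_rfl ≫ CommRingCat.ofHom ev = 𝟙 _ from
      CommRingCat.hom_ext (RingHom.ext fun r => by rw [← Scheme.Hom.app_eq_appLE]; exact hevc r),
      Spec.map_id, Category.id_comp, IsAffineOpen.toSpecΓ_fromSpec]
  refine ⟨Over.homMk s₀ (by
    show s₀ ≫ B.V.hom = W.ι ≫ X.hom
    rw [← Over.w B.π, ← Category.assoc, hs]), Over.OverMorphism.ext hs, fun w => ?_⟩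
  show hV.fromSpec ((Spec.map (CommRingCat.ofHom ev)) (W.toSpecΓ w)) ∈ B.V.left.basicOpen y
  show (Spec.map (CommRingCat.ofHom ev)) (W.toSpecΓ w) ∈ hV.fromSpec ⁻¹ᵁ B.V.left.basicOpen y
  rw [hV.fromSpec_preimage_basicOpen]
  show y ∉ Ideal.comap ev (W.toSpecΓ w).asIdeal
  rw [Ideal.mem_comap, hevy]
  exact fun h => (W.toSpecΓ w).2.ne_top ((Ideal.eq_top_iff_one _).2 h)

theorem nonvanishing_le {n : ℕ} {f : Γ(B.V.left, ⊤)} {W : X.left.Opens} {y : Γ(B.V.left, B.π.left ⁻¹ᵁ W)}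
    (hy : Chart B W y) {c : Γ(X.left, W)} (hc : GLinSh.resTop B.π W f = B.π.left.app W c * y ^ n)
    (hW : (W : Set X.left) ⊆ GLinSh.nonvanishing B.π f) :
    B.V.left.basicOpen y ≤ B.V.left.basicOpen f := by
  have hu : IsUnit (B.π.left.app W c) := (isUnit_coeff hy hc hW).map _
  have h : B.V.left.basicOpen (GLinSh.resTop B.π W f) = (B.π.left ⁻¹ᵁ W) ⊓ B.V.left.basicOpen f :=
    Scheme.basicOpen_res _ _ _
  rw [hc, Scheme.basicOpen_mul, Scheme.basicOpen_of_isUnit _ hu] at h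
  intro v hv
  rcases Nat.eq_zero_or_pos n with rfl | hn
  · rw [pow_zero, Scheme.basicOpen_of_isUnit _ isUnit_one, inf_idem] at h
    exact (h.le (B.V.left.basicOpen_le _ hv)).2
  · rw [Scheme.basicOpen_pow _ _ hn] at h
    exact (h.le ⟨B.V.left.basicOpen_le _ hv, hv⟩).2

/-- Two pullbacks of a ratio agree off the zero section. -/
theorem ratio_eq_on {n : ℕ} {f g : Γ(B.V.left, ⊤)} (hf : B.IsInvSection n f) (hg : B.IsInvSection n g)
    {O : X.left.Opens} {r : Γ(X.left, O)}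
    (hr : B.π.left.app O r * GLinSh.resTop B.π O f = GLinSh.resTop B.π O g) (D : (G ⊗ B.V).left.Opens)
    (h2 : D ≤ (G ⊗ B.V).left.basicOpen ((snd G B.V).left.appTop f))
    (hDa : D ≤ (B.lift.act.left ≫ B.π.left) ⁻¹ᵁ O) (hDs : D ≤ ((snd G B.V).left ≫ B.π.left) ⁻¹ᵁ O) :
    (B.lift.act.left ≫ B.π.left).appLE O D hDa r = ((snd G B.V).left ≫ B.π.left).appLE O D hDs r := by
  have E : ∀ (q : (G ⊗ B.V).left ⟶ B.V.left) (hq : D ≤ (q ≫ B.π.left) ⁻¹ᵁ O),
      (q ≫ B.π.left).appLE O D hq r * (G ⊗ B.V).left.presheaf.map (homOfLE le_top).op (q.appTop f) =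
        (G ⊗ B.V).left.presheaf.map (homOfLE le_top).op (q.appTop g) := by
    intro q hq
    have h := congrArg (q.appLE (B.π.left ⁻¹ᵁ O) D hq) hr
    rw [map_mul] at h
    simp only [GLinSh.resTop, ← CommRingCat.comp_apply, Scheme.Hom.map_appLE] at h
    simp only [← CommRingCat.comp_apply]
    rw [← Scheme.Hom.comp_appLE] at h
    simp only [Scheme.Hom.appTop, Scheme.Hom.app_eq_appLE, Scheme.Hom.appLE_map]
    exact h
  have e1 := E B.lift.act.left hDa
  have e2 := E (snd G B.V).left hDs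
  rw [show B.lift.act.left.appTop f = (snd G B.V).left.appTop f from hf.2,
    show B.lift.act.left.appTop g = (snd G B.V).left.appTop g from hg.2, ← e2] at e1
  refine IsUnit.mul_left_injective ?_ e1
  exact isUnit_res_of_le _ le_top h2

/-- Ratios of invariant sections are invariant functions. -/
theorem invOn_ratio {n : ℕ} {f g : Γ(B.V.left, ⊤)} (hf : B.IsInvSection n f) (hg : B.IsInvSection n g)
    {O : X.left.Opens} (hO : (O : Set X.left) ⊆ GLinSh.nonvanishing B.π f)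
    {r : Γ(X.left, O)} (hr : B.π.left.app O r * GLinSh.resTop B.π O f = GLinSh.resTop B.π O g) :
    InvOn a O r := by
  let P : (G ⊗ X).left.Opens := a.act.left ⁻¹ᵁ O ⊓ (snd G X).left ⁻¹ᵁ O
  let D : (G ⊗ B.V).left.Opens := (G ◁ B.π).left ⁻¹ᵁ P ⊓ (G ⊗ B.V).left.basicOpen ((snd G B.V).left.appTop f)
  have hl : (G ◁ B.π).left ≫ a.act.left = B.lift.act.left ≫ B.π.left := (congrArg CommaMorphism.left B.lift_π).symm
  have hs' : (G ◁ B.π).left ≫ (snd G X).left = (snd G B.V).left ≫ B.π.left :=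
    congrArg CommaMorphism.left (whiskerLeft_snd G B.π)
  have hDa : D ≤ (B.lift.act.left ≫ B.π.left) ⁻¹ᵁ O := fun z hz => by
    rw [← hl]; exact hz.1.1
  have hDs : D ≤ ((snd G B.V).left ≫ B.π.left) ⁻¹ᵁ O := fun z hz => by
    rw [← hs']; exact hz.1.2
  have key := ratio_eq_on hf hg hr D inf_le_right hDa hDs
  let J := {W : X.left.Opens // W ≤ O ∧ ∃ y, Chart B W y}
  refine (G ⊗ X).left.sheaf.eq_of_locally_eq' (fun p : J => P ⊓ (snd G X).left ⁻¹ᵁ p.1) P
    (fun p => homOfLE inf_le_left) (fun z hz => ?_) _ _ fun p => ?_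
  · obtain ⟨W, y, hzW, hWO, hy⟩ := exists_chart B (show (snd G X).left z ∈ O from hz.2)
    exact Opens.mem_iSup.2 ⟨⟨W, hWO, y, hy⟩, hz, hzW⟩
  obtain ⟨W, hWO, y, hy⟩ := p
  show (G ⊗ X).left.presheaf.map (homOfLE _).op _ = (G ⊗ X).left.presheaf.map (homOfLE _).op _
  rw [← CommRingCat.comp_apply, ← CommRingCat.comp_apply, Scheme.Hom.appLE_map, Scheme.Hom.appLE_map]
  obtain ⟨s, hs, hsy⟩ := hy.exists_section
  obtain ⟨c, hc⟩ := weight_chart hf.1 hy
  let PW : (G ⊗ X).left.Opens := P ⊓ (snd G X).left ⁻¹ᵁ W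
  let iW := (G ◁ jO W).left
  let q := (G ◁ s).left
  have hiq : q ≫ (G ◁ B.π).left = iW := by
    rw [← Over.comp_left, ← MonoidalCategory.whiskerLeft_comp, hs]
  refine (GitTorsor.bijective_appLE iW (le_opensRange_whiskerLeft (P := PW) inf_le_right) rfl).1 ?_
  have hq : iW ⁻¹ᵁ PW ≤ q ⁻¹ᵁ D := by
    intro z hz
    refine ⟨?_, ?_⟩
    · show (G ◁ B.π).left (q z) ∈ P
      rw [← Scheme.Hom.comp_apply, hiq]
      exact hz.1
    · show q z ∈ (G ⊗ B.V).left.basicOpen ((snd G B.V).left.appTop f)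
      rw [← Scheme.preimage_basicOpen_top]
      show (snd G B.V).left (q z) ∈ B.V.left.basicOpen f
      rw [← Scheme.Hom.comp_apply, ← Over.comp_left, whiskerLeft_snd, Over.comp_left, Scheme.Hom.comp_apply]
      exact nonvanishing_le hy hc (fun w hw => hO (hWO hw)) (hsy _)
  have hWa : iW ⁻¹ᵁ PW ≤ (q ≫ B.lift.act.left ≫ B.π.left) ⁻¹ᵁ O := hq.trans (q.preimage_mono hDa)
  have hWs : iW ⁻¹ᵁ PW ≤ (q ≫ (snd G B.V).left ≫ B.π.left) ⁻¹ᵁ O := hq.trans (q.preimage_mono hDs)
  have e1 : iW ≫ a.act.left = q ≫ B.lift.act.left ≫ B.π.left := by rw [← hl, ← Category.assoc, hiq]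
  have e2 : iW ≫ (snd G X).left = q ≫ (snd G B.V).left ≫ B.π.left := by rw [← hs', ← Category.assoc, hiq]
  calc _ = (q ≫ B.lift.act.left ≫ B.π.left).appLE O (iW ⁻¹ᵁ PW) hWa r :=
        appLE_of_comp iW a.act.left (inf_le_left.trans inf_le_left) le_rfl r _ e1 hWa
    _ = q.appLE D (iW ⁻¹ᵁ PW) hq ((B.lift.act.left ≫ B.π.left).appLE O D hDa r) :=
        (appLE_of_comp q _ hDa hq r _ rfl hWa).symm
    _ = q.appLE D (iW ⁻¹ᵁ PW) hq (((snd G B.V).left ≫ B.π.left).appLE O D hDs r) := congrArg _ key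
    _ = (q ≫ (snd G B.V).left ≫ B.π.left).appLE O (iW ⁻¹ᵁ PW) hWs r :=
        appLE_of_comp q _ hDs hq r _ rfl hWs
    _ = _ := (appLE_of_comp iW (snd G X).left (inf_le_left.trans inf_le_right) le_rfl r _ e2 hWs).symm

/-- Nonvanishing loci of invariant sections are invariant. -/
theorem invOpen_of_nonvanishing {n : ℕ} {f : Γ(B.V.left, ⊤)} (hf : B.IsInvSection n f) {O : X.left.Opens}
    (hO : (O : Set X.left) = GLinSh.nonvanishing B.π f) : InvOpen a O := fun z => by
  rw [← SetLike.mem_coe, ← SetLike.mem_coe, hO]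
  exact act_mem_nonvanishing_iff hf.2 z

end Ratio

end Groth.Agent.GitSS
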