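import Groth.Agent.StabDimLib.Main
import Groth.Agent.RedQuotLib.StabFinite

/-!
# Finiteness of stabilisers and their dimension
-/

set_option autoImplicit false
set_option backward.isDefEq.respectTransparency false
set_option backward.isDefEq.respectTransparency.types false
set_option linter.style.haveILetI false

noncomputable section

universe u

open CategoryTheory MonoidalCategory CartesianMonoidalCategory MonObj AlgebraicGeometry TopologicalSpace

namespace Groth.Agent.GitSS

attribute [-instance] CategoryTheory.Hom.commGroup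

/-- Over a field, zero-dimensional of finite type means finite. -/
theorem dim_le_zero_iff_finite {K : Type u} [Field K] {Z : Scheme.{u}} (π : Z ⟶ Spec (CommRingCat.of K))
    [LocallyOfFiniteType π] [CompactSpace ↥Z] : topologicalKrullDim ↥Z ≤ 0 ↔ Finite ↥Z := by
  constructor
  · intro h
    haveI := LocallyOfFiniteType.isLocallyNoetherian π
    haveI := IsLocallyArtinian.of_topologicalKrullDim_le_zero h
    exact finite_of_compact_of_discrete
  · intro h
    haveI : JacobsonSpace ↥Z := LocallyOfFiniteType.jacobsonSpace π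
    haveI : DiscreteTopology ↥Z := JacobsonSpace.discreteTopology (Set.toFinite _)
    exact topologicalKrullDim_zero_of_discreteTopology _

theorem one_le_iff_not_le_zero (d : WithBot ℕ∞) : 1 ≤ d ↔ ¬ d ≤ 0 := by
  induction d with
  | bot => simp
  | coe d =>
    rw [show (1 : WithBot ℕ∞) = ((1 : ℕ∞) : WithBot ℕ∞) from rfl, show (0 : WithBot ℕ∞) = ((0 : ℕ∞) : WithBot ℕ∞) from rfl,
      WithBot.coe_le_coe, WithBot.coe_le_coe, nonpos_iff_eq_zero]
    exact Order.one_le_iff_pos.trans pos_iff_ne_zero

/-- A geometric point over a point factors through its residue field. -/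
theorem exists_factor {X : Scheme.{u}} {Ω : Type u} [Field Ω] (t : Spec (CommRingCat.of Ω) ⟶ X) {x : X}
    (hx : Set.range t = {x}) :
    ∃ l : Spec (CommRingCat.of Ω) ⟶ Spec (X.residueField x), l ≫ X.fromSpecResidueField x = t ∧ Surjective l := by
  obtain ⟨⟨y, φ⟩, rfl⟩ := (Scheme.SpecToEquivOfField Ω X).symm.surjective t
  obtain rfl : y = x := by
    have h : (Spec.map φ ≫ X.fromSpecResidueField y) (IsLocalRing.closedPoint Ω) ∈ ({x} : Set X) :=
      hx ▸ Set.mem_range_self _
    rw [Scheme.Hom.comp_apply, Scheme.fromSpecResidueField_apply] at h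
    exact h
  exact ⟨Spec.map φ, rfl, ⟨fun p => ⟨IsLocalRing.closedPoint Ω, Subsingleton.elim _ _⟩⟩⟩

variable {k : Type u} [Field k] {G X : Over (Spec (CommRingCat.of k))} [GrpObj G]
variable [IsAffine G.left] [LocallyOfFiniteType G.hom] [LocallyOfFiniteType X.hom] [QuasiCompact X.hom]

theorem locallyOfFiniteType_psi (a : AlgGrp.Action G X) : LocallyOfFiniteType (GIT.psi a (𝟙 X)).left := by
  haveI : LocallyOfFiniteType (G ⊗ X).hom :=
    inferInstanceAs (LocallyOfFiniteType (Limits.pullback.fst G.hom X.hom ≫ G.hom))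
  haveI : LocallyOfFiniteType ((GIT.psi a (𝟙 X)).left ≫ (X ⊗ X).hom) := by
    rw [Over.w (GIT.psi a (𝟙 X))]; infer_instance
  exact locallyOfFiniteType_of_comp _ (X ⊗ X).hom

theorem quasiCompact_psi (a : AlgGrp.Action G X) : QuasiCompact (GIT.psi a (𝟙 X)).left := by
  haveI : IsLocallyNoetherian X.left := LocallyOfFiniteType.isLocallyNoetherian X.hom
  haveI : CompactSpace X.left := QuasiCompact.compactSpace_of_compactSpace X.hom
  haveI : QuasiCompact G.hom := inferInstance
  haveI : QuasiCompact (G ⊗ X).hom := inferInstanceAs (QuasiCompact (Limits.pullback.fst G.hom X.hom ≫ G.hom))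
  haveI : QuasiSeparated X.hom := inferInstance
  haveI : QuasiSeparated (X ⊗ X).hom := inferInstanceAs (QuasiSeparated (Limits.pullback.fst X.hom X.hom ≫ X.hom))
  haveI : QuasiCompact ((GIT.psi a (𝟙 X)).left ≫ (X ⊗ X).hom) := by
    rw [Over.w (GIT.psi a (𝟙 X))]; infer_instance
  exact QuasiCompact.of_comp _ (X ⊗ X).hom

/-- The stabiliser at a point. -/
abbrev stabDim (a : AlgGrp.Action G X) (x : X.left) : WithBot ℕ∞ :=
  topologicalKrullDim (GLinSh.stab a (Over.homMk (X.left.fromSpecResidueField x) rfl :
    Over.mk (X.left.fromSpecResidueField x ≫ X.hom) ⟶ X))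

/-- Geometric stabilisers are finite exactly where the stabiliser has dimension `0`. -/
theorem stab_geom_iff (a : AlgGrp.Action G X) {Ω : Type u} [Field Ω] {T : Over (Spec (CommRingCat.of k))}
    (eT : T.left ≅ Spec (CommRingCat.of Ω)) (f : T ⟶ X) {x : X.left} (hx : Set.range f.left.base = {x}) :
    (IsFinite (GLinSh.stabTo a f) ↔ stabDim a x ≤ 0) ∧
      (IsFinite (GLinSh.stabTo a f) → (GLinSh.stabTo a (𝟙 X) ⁻¹' {x}).Finite) := by
  haveI := locallyOfFiniteType_psi a
  haveI := quasiCompact_psi a
  let π := GLinSh.stabTo a (𝟙 X)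
  haveI : LocallyOfFiniteType π := MorphismProperty.pullback_snd (P := @LocallyOfFiniteType) _ _ inferInstance
  haveI : QuasiCompact π := MorphismProperty.pullback_snd (P := @QuasiCompact) _ _ inferInstance
  let fx : Over.mk (X.left.fromSpecResidueField x ≫ X.hom) ⟶ X := Over.homMk (X.left.fromSpecResidueField x) rfl
  obtain ⟨φx, hφx⟩ := StabDim.exists_isPullback_stab a fx
  obtain ⟨φ, hφ⟩ := StabDim.exists_isPullback_stab a f
  let πx : GLinSh.stab a fx ⟶ Spec (X.left.residueField x) := GLinSh.stabTo a fx
  haveI : LocallyOfFiniteType πx := MorphismProperty.of_isPullback (P := @LocallyOfFiniteType) hφx inferInstance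
  haveI : QuasiCompact πx := MorphismProperty.of_isPullback (P := @QuasiCompact) hφx inferInstance
  haveI : CompactSpace ↥(GLinSh.stab a fx) := QuasiCompact.compactSpace_of_compactSpace πx
  obtain ⟨l, hl, hls⟩ := exists_factor (eT.inv ≫ f.left) (x := x) (by
    rw [← hx]
    ext y
    exact ⟨fun ⟨p, hp⟩ => ⟨eT.inv p, hp⟩, fun ⟨p, hp⟩ => ⟨eT.hom p, by
      rw [← Scheme.Hom.comp_apply, Iso.hom_inv_id_assoc]; exact hp⟩⟩)
  have hf : eT.hom ≫ l ≫ X.left.fromSpecResidueField x = f.left := by rw [hl, Iso.hom_inv_id_assoc]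
  let m : GLinSh.stab a f ⟶ GLinSh.stab a fx := hφx.lift φ (GLinSh.stabTo a f ≫ eT.hom ≫ l) (by
    rw [Category.assoc, Category.assoc]
    exact hφ.w.trans (congrArg _ hf.symm))
  have hm : IsPullback m (GLinSh.stabTo a f) πx (eT.hom ≫ l) := by
    refine IsPullback.of_right ?_ (hφx.lift_snd _ _ _) hφx
    rw [hφx.lift_fst]
    exact (Category.assoc eT.hom l _).trans hf ▸ hφ
  haveI : Surjective (eT.hom ≫ l) := inferInstance
  haveI : Surjective m := MorphismProperty.of_isPullback (P := @Surjective) hm.flip inferInstance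
  have hfin : IsFinite (GLinSh.stabTo a f) ↔ Finite ↥(GLinSh.stab a fx) := by
    constructor
    · intro h
      haveI : Finite ↥(GLinSh.stab a f) := by
        haveI : IsFinite (GLinSh.stabTo a f ≫ eT.hom) := inferInstance
        have hu : (Set.univ : Set ↥(GLinSh.stab a f)).Finite := by
          simpa using (GLinSh.stabTo a f ≫ eT.hom).finite_preimage (s := Set.univ) (Set.toFinite _)
        exact Set.finite_univ_iff.1 hu
      exact Finite.of_surjective _ m.surjective
    · intro h
      haveI : LocallyQuasiFinite πx := LocallyQuasiFinite.of_finite_preimage_singleton πx fun _ => Set.toFinite _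
      haveI : IsFinite πx := IsFinite.of_locallyQuasiFinite πx
      exact MorphismProperty.of_isPullback (P := @IsFinite) hm inferInstance
  refine ⟨hfin.trans (dim_le_zero_iff_finite (K := X.left.residueField x) πx).symm, fun h => ?_⟩
  haveI := hfin.1 h
  refine (Set.finite_range φx).subset fun w hw => ?_
  obtain ⟨z, hz, -⟩ := RedQuot.exists_point_of_isPullback hφx w (IsLocalRing.closedPoint _)
    ((Set.mem_singleton_iff.1 hw).trans (Scheme.fromSpecResidueField_apply _ _).symm)
  exact ⟨z, hz⟩

end Groth.Agent.GitSS
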