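import Groth.Agent.GitSSLib.Transport
import Groth.Agent.GitSSLib.StabFin
import Groth.Agent.PropActLib.Main

/-!
# The action on the properly stable locus is proper
-/

set_option autoImplicit false
set_option backward.isDefEq.respectTransparency false
set_option backward.isDefEq.respectTransparency.types false
set_option linter.style.haveILetI false

noncomputable section

universe u

open CategoryTheory MonoidalCategory CartesianMonoidalCategory MonObj AlgebraicGeometry TopologicalSpace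

namespace Groth.Agent.GitSS

attribute [-instance] CategoryTheory.Hom.commGroup

variable {k : Type u} [Field k] {G X : Over (Spec (CommRingCat.of k))} [GrpObj G]

/-- An algebraic geometric point over a point. -/
theorem exists_geom_point {Z : Over (Spec (CommRingCat.of k))} (z : Z.left) :
    ∃ (Ω : Type u) (_ : Field Ω) (_ : IsAlgClosed Ω) (T : Over (Spec (CommRingCat.of k)))
      (_ : T.left ≅ Spec (CommRingCat.of Ω)) (p : T ⟶ Z), Set.range p.left.base = {z} := by
  have hr : ∀ (K : Type u) [Field K] (q : Spec (CommRingCat.of K) ⟶ Spec (Z.left.residueField z)),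
      Set.range (q ≫ Z.left.fromSpecResidueField z).base = {z} := fun K _ q => by
    refine Set.Subset.antisymm ?_ ?_
    · rintro _ ⟨w, rfl⟩
      show (q ≫ Z.left.fromSpecResidueField z) w ∈ ({z} : Set Z.left)
      rw [Scheme.Hom.comp_apply, Scheme.fromSpecResidueField_apply]
      rfl
    · rintro y hy
      refine ⟨IsLocalRing.closedPoint K, ?_⟩
      show (q ≫ Z.left.fromSpecResidueField z) _ = y
      rw [Scheme.Hom.comp_apply, Scheme.fromSpecResidueField_apply]
      exact hy.symm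
  let q : Spec (CommRingCat.of (AlgebraicClosure (Z.left.residueField z))) ⟶ Spec (Z.left.residueField z) :=
    Spec.map (CommRingCat.ofHom (algebraMap (Z.left.residueField z) (AlgebraicClosure (Z.left.residueField z))))
  exact ⟨AlgebraicClosure (Z.left.residueField z), inferInstance, inferInstance,
    Over.mk ((q ≫ Z.left.fromSpecResidueField z) ≫ Z.hom), Iso.refl _,
    Over.homMk (q ≫ Z.left.fromSpecResidueField z) rfl, hr _ q⟩

variable [IsAffine G.left] [LocallyOfFiniteType G.hom] [LocallyOfFiniteType X.hom] [QuasiCompact X.hom]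

theorem range_comp_eq {T Z W : Over (Spec (CommRingCat.of k))} (p : T ⟶ Z) (q : Z ⟶ W) {z : Z.left}
    (h : Set.range p.left.base = {z}) : Set.range (p ≫ q).left.base = {q.left z} := by
  rw [Over.comp_left, Scheme.Hom.comp_base]
  show Set.range (q.left.base ∘ p.left.base) = _
  rw [Set.range_comp, h, Set.image_singleton]

/-- Finiteness of stabilisers is constant along orbits. -/
theorem stabDim_act_iff (a : AlgGrp.Action G X) (z : (G ⊗ X).left) :
    stabDim a (a.act.left z) ≤ 0 ↔ stabDim a ((snd G X).left z) ≤ 0 := by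
  obtain ⟨Ω, _, _, T, eT, p, hp⟩ := exists_geom_point z
  rw [← (stab_geom_iff a eT (p ≫ a.act) (range_comp_eq p a.act hp)).1,
    ← (stab_geom_iff a eT (p ≫ snd G X) (range_comp_eq p (snd G X) hp)).1,
    RedQuot.isFinite_stabTo_iff a eT, RedQuot.isFinite_stabTo_iff a eT]
  have hpa : p ≫ a.act = lift (p ≫ fst G X) (p ≫ snd G X) ≫ a.act := by
    rw [← comp_lift, lift_fst_snd, Category.comp_id]
  rw [hpa]
  generalize p ≫ fst G X = g
  generalize p ≫ snd G X = x
  constructor
  · intro h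
    refine (h.image fun s => g⁻¹ * s * g).subset fun s hs => ⟨g * s * g⁻¹, ?_, by group⟩
    show lift (g * s * g⁻¹) (lift g x ≫ a.act) ≫ a.act = lift g x ≫ a.act
    rw [RedQuot.act_mul, inv_mul_cancel_right, ← RedQuot.act_mul, show lift s x ≫ a.act = x from hs]
  · intro h
    refine (h.image fun s => g * s * g⁻¹).subset fun s hs => ⟨g⁻¹ * s * g, ?_, by group⟩
    show lift (g⁻¹ * s * g) x ≫ a.act = x
    rw [← RedQuot.act_mul, ← RedQuot.act_mul, show lift s (lift g x ≫ a.act) ≫ a.act = lift g x ≫ a.act from hs,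
      RedQuot.act_mul, inv_mul_cancel, RedQuot.act_one]

variable {a : AlgGrp.Action G X} (B : GLinSh.LinBun G a)

/-- The semi-stable locus is open. -/
theorem isOpen_ssLocus : IsOpen B.ssLocus :=
  isOpen_iff_forall_mem_open.2 fun x hx => by
    obtain ⟨n, f, hn, hf, hxf, U, hU, hUa⟩ := hx
    exact ⟨U, fun y hy => ⟨n, f, hn, hf, hU.subset hy, U, hU, hUa⟩, U.2, hU.symm.subset hxf⟩

/-- The stable locus is open. -/
theorem isOpen_sLocus : IsOpen B.sLocus :=
  isOpen_iff_forall_mem_open.2 fun x hx => by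
    obtain ⟨n, f, hn, hf, hxf, U, hU, hUa, hcl⟩ := hx
    exact ⟨U, fun y hy => ⟨n, f, hn, hf, hU.subset hy, U, hU, hUa, hcl⟩, U.2, hU.symm.subset hxf⟩

theorem sLocus_subset : B.sLocus ⊆ B.ssLocus :=
  fun _ ⟨n, f, hn, hf, hxf, U, hU, hUa, _⟩ => ⟨n, f, hn, hf, hxf, U, hU, hUa⟩

/-- Properly stable means stable with zero-dimensional stabiliser. -/
theorem mem_psLocus_iff (x : X.left) : x ∈ B.psLocus ↔ x ∈ B.sLocus ∧ stabDim a x ≤ 0 := by
  constructor
  · rintro ⟨hs, hfin⟩
    obtain ⟨Ω, _, _, T, eT, f, hf⟩ := exists_geom_point x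
    exact ⟨hs, (stab_geom_iff a eT f hf).1.1 (hfin Ω T eT f hf)⟩
  · rintro ⟨hs, hd⟩
    exact ⟨hs, fun Ω _ _ T eT f hf => (stab_geom_iff a eT f hf).1.2 hd⟩

/-- The properly stable locus is open. -/
theorem isOpen_psLocus : IsOpen B.psLocus := by
  rw [show B.psLocus = B.sLocus ∩ {x | 1 ≤ stabDim a x}ᶜ from Set.ext fun x => by
    rw [mem_psLocus_iff, Set.mem_inter_iff, Set.mem_compl_iff, Set.mem_setOf_eq, one_le_iff_not_le_zero, not_not]]
  exact (isOpen_sLocus B).inter (StabDim.isClosed_le_dim_stab a 1).isOpen_compl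

/-- Properness of the action on the properly stable locus. -/
theorem isProper_psi_psLocus {A : Type u} [CommRing A] [HopfAlgebra k A] [Algebra.FiniteType k A]
    (hA : HopfRep.IsLinearlyReductive k A) [IsDomain (TensorProduct k (AlgebraicClosure k) A)]
    (e : CoactBr.sp k A ≅ G) [IsMonHom e.hom] (U : X.left.Opens) (hU : (U : Set X.left) = B.psLocus)
    (aP : AlgGrp.Action G (Over.mk (U.ι ≫ X.hom))) (haP : aP.act ≫ jO U = (G ◁ jO U) ≫ a.act) :
    IsProper (GIT.psi aP (𝟙 (Over.mk (U.ι ≫ X.hom)))).left := by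
  haveI : IsAffineHom G.hom := inferInstance
  haveI : QuasiCompact G.hom := inferInstance
  haveI : IsLocallyNoetherian X.left := LocallyOfFiniteType.isLocallyNoetherian X.hom
  haveI : CompactSpace X.left := QuasiCompact.compactSpace_of_compactSpace X.hom
  haveI : IsNoetherian X.left := ⟨⟩
  let Uss : X.left.Opens := ⟨B.ssLocus, isOpen_ssLocus B⟩
  let Us : X.left.Opens := ⟨B.sLocus, isOpen_sLocus B⟩
  have hle : Us ≤ Uss := sLocus_subset B
  obtain ⟨aU, haU⟩ := exists_restrict a (O := Uss) (fun z => by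
    constructor
    · rintro ⟨n, f, hn, hf, hxf, V, hV, hVa⟩
      exact ⟨n, f, hn, hf, (act_mem_nonvanishing_iff hf.2 z).1 hxf, V, hV, hVa⟩
    · rintro ⟨n, f, hn, hf, hxf, V, hV, hVa⟩
      exact ⟨n, f, hn, hf, (act_mem_nonvanishing_iff hf.2 z).2 hxf, V, hV, hVa⟩)
  have hsinv : InvOpen a Us := fun z => by
    constructor
    · rintro ⟨n, f, hn, hf, hxf, V, hV, hVa, hcl⟩
      exact ⟨n, f, hn, hf, (act_mem_nonvanishing_iff hf.2 z).1 hxf, V, hV, hVa, hcl⟩
    · rintro ⟨n, f, hn, hf, hxf, V, hV, hVa, hcl⟩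
      exact ⟨n, f, hn, hf, (act_mem_nonvanishing_iff hf.2 z).2 hxf, V, hV, hVa, hcl⟩
  obtain ⟨aS, haS⟩ := exists_restrict a hsinv
  obtain ⟨C⟩ := exists_coords hA e B Uss rfl
  obtain ⟨Y, φ, hu, haff, hsub, hsep, hlft, -, hloc⟩ := exists_quotient hA e C aU haU
  obtain ⟨Yt, φs, hφs, hpre, hg⟩ := exists_open_geom hA e (U := Uss) rfl aU haU φ hu hsub C.one_le hloc Us rfl hle aS haS
  haveI : IsAffineHom φs.left := by
    have sq : IsPullback φs.left (X.left.homOfLE hle) Yt.ι φ.left :=
      IsOpenImmersion.isPullback _ _ _ _ hφs.symm (by rw [Scheme.Opens.opensRange_ι, hpre, Scheme.opensRange_homOfLE])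
    exact MorphismProperty.of_isPullback (P := @IsAffineHom) sq.flip haff
  have hUle : U ≤ Us := fun x hx => by
    have h : x ∈ (U : Set X.left) := hx
    rw [hU] at h
    exact h.1
  let S₀ : Set ↥(Over.mk (Us.ι ≫ X.hom)).left := Us.ι ⁻¹' (U : Set X.left)
  have hUinv : ∀ z : (G ⊗ X).left, a.act.left z ∈ U ↔ (snd G X).left z ∈ U := fun z => by
    rw [← SetLike.mem_coe, ← SetLike.mem_coe, hU, mem_psLocus_iff, mem_psLocus_iff, stabDim_act_iff a z]
    exact and_congr_left' (hsinv z)
  have hsat : φs.left.base ⁻¹' (φs.left.base '' S₀) = S₀ := by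
    refine Set.Subset.antisymm ?_ (Set.subset_preimage_image _ _)
    rintro x ⟨x', hx', hxx⟩
    obtain ⟨p, hp1, hp2⟩ := Scheme.Pullback.exists_preimage_pullback (f := φs.left) (g := φs.left) x' x hxx
    obtain ⟨w, hw⟩ := hg.1.orbit p
    have h1 : aS.act.left w = x' := by
      rw [← hp1, ← hw, ← Scheme.Hom.comp_apply (GIT.PsiY aS φs hg.1.inv)]
      exact congrArg (fun g : _ ⟶ (Over.mk (Us.ι ≫ X.hom)).left => g w) (Limits.pullback.lift_fst _ _ _).symm
    have h2 : (snd G _).left w = x := by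
      rw [← hp2, ← hw, ← Scheme.Hom.comp_apply (GIT.PsiY aS φs hg.1.inv)]
      exact congrArg (fun g : _ ⟶ (Over.mk (Us.ι ≫ X.hom)).left => g w) (Limits.pullback.lift_snd _ _ _).symm
    show Us.ι x ∈ U
    have h3 : a.act.left ((G ◁ jO Us).left w) = Us.ι x' := by
      rw [← Scheme.Hom.comp_apply, ← Over.comp_left, ← haS, Over.comp_left, Scheme.Hom.comp_apply, h1]
      rfl
    have h4 : (snd G X).left ((G ◁ jO Us).left w) = Us.ι x := by
      rw [← Scheme.Hom.comp_apply, ← Over.comp_left, whiskerLeft_snd, Over.comp_left, Scheme.Hom.comp_apply, h2]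
      rfl
    rw [← h4, ← hUinv, h3]
    exact hx'
  have hq : Topology.IsQuotientMap φs.left.base :=
    MorphismProperty.universally_le _ _ hg.1.subm
  let V : (Over.mk (Yt.ι ≫ Y.hom)).left.Opens :=
    ⟨φs.left.base '' S₀, hq.isOpen_preimage.1 (by rw [hsat]; exact U.2.preimage Us.ι.continuous)⟩
  have hV : φs.left ⁻¹ᵁ V = Us.ι ⁻¹ᵁ U := Opens.ext hsat
  let ju : Over.mk (U.ι ≫ X.hom) ⟶ Over.mk (Us.ι ≫ X.hom) := Over.homMk (X.left.homOfLE hUle) (by simp)
  have hju : ju ≫ jO Us = jO U := Over.OverMorphism.ext (X.left.homOfLE_ι hUle)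
  haveI : Mono (jO Us).left := inferInstanceAs (Mono Us.ι)
  haveI : Mono (jO Us) := Over.mono_of_mono_left _
  have haju : aP.act ≫ ju = (G ◁ ju) ≫ aS.act := by
    rw [← cancel_mono (jO Us), Category.assoc, hju, haP, Category.assoc, haS,
      ← MonoidalCategory.whiskerLeft_comp_assoc, hju]
  have hr : Set.range (X.left.homOfLE hUle ≫ φs.left) ⊆ Set.range V.ι := by
    rw [Scheme.Opens.range_ι]
    rintro _ ⟨x, rfl⟩
    refine ⟨X.left.homOfLE hUle x, ?_, rfl⟩
    show Us.ι (X.left.homOfLE hUle x) ∈ U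
    rw [← Scheme.Hom.comp_apply, X.left.homOfLE_ι]
    exact x.2
  let φP : Over.mk (U.ι ≫ X.hom) ⟶ RedQuot.resY V :=
    Over.homMk (IsOpenImmersion.lift V.ι (X.left.homOfLE hUle ≫ φs.left) hr) (by
      show _ ≫ V.ι ≫ (Over.mk (Yt.ι ≫ Y.hom)).hom = U.ι ≫ X.hom
      rw [IsOpenImmersion.lift_fac_assoc, Category.assoc, Over.w φs]
      exact X.left.homOfLE_ι_assoc hUle _)
  have hφP : φP.left ≫ V.ι = X.left.homOfLE hUle ≫ φs.left := IsOpenImmersion.lift_fac _ _ _
  haveI : IsOpenImmersion (RedQuot.resG V).left := inferInstanceAs (IsOpenImmersion V.ι)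
  haveI : IsOpenImmersion ju.left := inferInstanceAs (IsOpenImmersion (X.left.homOfLE hUle))
  have sqL : IsPullback φP.left ju.left (RedQuot.resG V).left φs.left :=
    IsOpenImmersion.isPullback φP.left ju.left (RedQuot.resG V).left φs.left hφP.symm (by
      show φs.left ⁻¹ᵁ V.ι.opensRange = (X.left.homOfLE hUle).opensRange
      rw [Scheme.Opens.opensRange_ι, hV, Scheme.opensRange_homOfLE])
  have sq : IsPullback ju φP φs (RedQuot.resG V) :=
    IsPullback.of_map (Over.forget _) (Over.OverMorphism.ext hφP.symm) sqL.flip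
  haveI : Mono (RedQuot.resG V) := Over.mono_of_mono_left _
  have hi : GIT.IsInvariant aP φP := by
    show aP.act ≫ φP = snd G _ ≫ φP
    rw [← cancel_mono (RedQuot.resG V), Category.assoc, Category.assoc, ← sq.w, ← Category.assoc, haju,
      Category.assoc, hg.1.inv, whiskerLeft_snd_assoc]
  have hgeo : GIT.IsGeomQuot aP φP :=
    hg.2 ju φP (RedQuot.resG V) (inferInstanceAs (Flat V.ι)) sq aP haju hi
  haveI : IsAffineHom φP.left := MorphismProperty.of_isPullback (P := @IsAffineHom) sqL.flip ‹IsAffineHom φs.left›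
  haveI : IsSeparated (RedQuot.resY V).hom := inferInstanceAs (IsSeparated (V.ι ≫ Yt.ι ≫ Y.hom))
  haveI : IsSeparated (Over.mk (U.ι ≫ X.hom)).hom := by
    rw [← Over.w φP]; infer_instance
  haveI : LocallyOfFiniteType (Over.mk (U.ι ≫ X.hom)).hom := inferInstanceAs (LocallyOfFiniteType (U.ι ≫ X.hom))
  haveI : QuasiCompact (Over.mk (U.ι ≫ X.hom)).hom := inferInstanceAs (QuasiCompact (U.ι ≫ X.hom))
  haveI : LocallyQuasiFinite
      (Limits.pullback.snd (GIT.psi aP (𝟙 _)).left (lift (𝟙 (Over.mk (U.ι ≫ X.hom))) (𝟙 _)).left) := by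
    haveI := locallyOfFiniteType_psi aP
    haveI := quasiCompact_psi aP
    show LocallyQuasiFinite (GLinSh.stabTo aP (𝟙 _))
    haveI : LocallyOfFiniteType (GLinSh.stabTo aP (𝟙 (Over.mk (U.ι ≫ X.hom)))) :=
      MorphismProperty.pullback_snd (P := @LocallyOfFiniteType) _ _ inferInstance
    haveI : QuasiCompact (GLinSh.stabTo aP (𝟙 (Over.mk (U.ι ≫ X.hom)))) :=
      MorphismProperty.pullback_snd (P := @QuasiCompact) _ _ inferInstance
    refine LocallyQuasiFinite.of_finite_preimage_singleton _ fun u => ?_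
    obtain ⟨Ω, _, _, T, eT, f, hf⟩ := exists_geom_point u
    refine (stab_geom_iff aP eT f hf).2 ((RedQuot.isFinite_stabTo_iff aP eT f).2 ?_)
    have hps : (jO U).left u ∈ B.psLocus := hU.subset u.2
    have hfin := (RedQuot.isFinite_stabTo_iff a eT (f ≫ jO U)).1
      (hps.2 Ω T eT (f ≫ jO U) (range_comp_eq f (jO U) hf))
    refine hfin.subset fun g hg' => ?_
    show lift g (f ≫ jO U) ≫ a.act = f ≫ jO U
    rw [← lift_whiskerLeft, Category.assoc, ← haP, ← Category.assoc, show lift g f ≫ aP.act = f from hg']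
  exact PropAct.isProper_psi hA e aP φP hgeo

end Groth.Agent.GitSS
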