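import Groth.Agent.GitSSLib.Coords
import Groth.Agent.RedQuotLib.Local
import Groth.Agent.AmpleEmb.Ratio
import Groth.Agent.AmpleLib.Basis

/-!
# The quotient of the semi-stable locus
-/

set_option autoImplicit false
set_option backward.isDefEq.respectTransparency false
set_option backward.isDefEq.respectTransparency.types false
set_option linter.style.haveILetI false

noncomputable section

universe u

open CategoryTheory MonoidalCategory CartesianMonoidalCategory MonObj AlgebraicGeometry TopologicalSpace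
open Groth.Agent.AmpleEmb (RatioFamily toProj stdOpen coordRatio constV)

namespace Groth.Agent.GitSS

attribute [-instance] CategoryTheory.Hom.commGroup

variable {k : Type u} [Field k] {G X : Over (Spec (CommRingCat.of k))} [GrpObj G] {a : AlgGrp.Action G X}

/-- Restriction commutes with the inclusion of an open. -/
theorem res_ι_app (U : X.left.Opens) {O W : X.left.Opens} (h : W ≤ O) (r : Γ(X.left, O)) :
    U.toScheme.presheaf.map (homOfLE (U.ι.preimage_mono h)).op (U.ι.app O r) =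
      U.ι.app W (X.left.presheaf.map (homOfLE h).op r) :=
  congr($(U.ι.naturality (homOfLE h).op) r).symm

/-- Restrictions of pullbacks of global functions. -/
theorem map_appTop {Z Z' : Scheme.{u}} (f : Z ⟶ Z') (O : Z.Opens) (x : Γ(Z', ⊤)) :
    Z.presheaf.map (homOfLE le_top).op (f.appTop x) = f.appLE ⊤ O le_top x := by
  rw [Scheme.Hom.appTop, Scheme.Hom.app_eq_appLE, ← CommRingCat.comp_apply, Scheme.Hom.appLE_map]

variable {B : GLinSh.LinBun G a} {U : X.left.Opens}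

/-- The ratio of two coordinates. -/
def Coords.ratio (C : Coords B U) (i j : Fin (C.M + 1)) : Γ(X.left, C.O i) :=
  (exists_ratio (C.inv i).1 (C.inv j).1 (C.eq i).subset).choose

theorem Coords.ratio_spec (C : Coords B U) (i j : Fin (C.M + 1)) :
    B.π.left.app (C.O i) (C.ratio i j) * GLinSh.resTop B.π (C.O i) (C.F i) = GLinSh.resTop B.π (C.O i) (C.F j) :=
  (exists_ratio (C.inv i).1 (C.inv j).1 (C.eq i).subset).choose_spec

theorem Coords.ratio_self (C : Coords B U) (i : Fin (C.M + 1)) : C.ratio i i = 1 :=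
  eq_of_mul_eq (C.inv i).1 (C.eq i).subset (by rw [C.ratio_spec, map_one, _root_.one_mul])

theorem Coords.basicOpen_ratio (C : Coords B U) (i j : Fin (C.M + 1)) :
    X.left.basicOpen (C.ratio i j) = C.O i ⊓ C.O j := by
  ext x
  simp only [SetLike.mem_coe, Opens.mem_inf]
  constructor
  · intro hx
    have hxi := X.left.basicOpen_le _ hx
    refine ⟨hxi, ?_⟩
    rw [← SetLike.mem_coe, C.eq]
    exact (mem_nonvanishing_iff_of_ratio B (C.inv i).1 (C.eq i).subset (C.ratio_spec i j) hxi).2 hx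
  · rintro ⟨hxi, hxj⟩
    exact (mem_nonvanishing_iff_of_ratio B (C.inv i).1 (C.eq i).subset (C.ratio_spec i j) hxi).1
      ((C.eq j).subset hxj)

theorem Coords.ratio_mul (C : Coords B U) (i j l : Fin (C.M + 1)) :
    X.left.presheaf.map (homOfLE (inf_le_right : C.O i ⊓ C.O j ≤ C.O j)).op (C.ratio j l) =
      X.left.presheaf.map (homOfLE (inf_le_right : C.O i ⊓ C.O j ≤ C.O j)).op (C.ratio j i) *
        X.left.presheaf.map (homOfLE (inf_le_left : C.O i ⊓ C.O j ≤ C.O i)).op (C.ratio i l) := by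
  have hO : ((C.O i ⊓ C.O j : X.left.Opens) : Set X.left) ⊆ GLinSh.nonvanishing B.π (C.F j) :=
    fun x hx => (C.eq j).subset hx.2
  have e1 := congrArg (GLinSh.res B.π (inf_le_right : C.O i ⊓ C.O j ≤ C.O j)) (C.ratio_spec j l)
  have e2 := congrArg (GLinSh.res B.π (inf_le_right : C.O i ⊓ C.O j ≤ C.O j)) (C.ratio_spec j i)
  have e3 := congrArg (GLinSh.res B.π (inf_le_left : C.O i ⊓ C.O j ≤ C.O i)) (C.ratio_spec i l)
  rw [res_mul, res_resTop, res_resTop, res_app] at e1 e2 e3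
  refine eq_of_mul_eq (C.inv j).1 hO ?_
  rw [e1, map_mul, _root_.mul_comm (B.π.left.app _ _) (B.π.left.app _ _), _root_.mul_assoc, e2, e3]

theorem Coords.iSup_preimage (C : Coords B U) : ⨆ i, U.ι ⁻¹ᵁ C.O i = ⊤ :=
  top_unique fun x _ => by
    obtain ⟨i, -, hi⟩ := C.cover x.1 x.2
    exact Opens.mem_iSup.2 ⟨i, hi⟩

/-- The ratio family on the semi-stable locus. -/
def Coords.family (C : Coords B U) : RatioFamily U.toScheme C.M where
  U i := U.ι ⁻¹ᵁ C.O i
  affine i := (C.affine i).preimage_of_isOpenImmersion _ ((C.le i).trans (Scheme.Opens.opensRange_ι U).ge)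
  cover := C.iSup_preimage
  t i j := U.ι.app (C.O i) (C.ratio i j)
  t_self i := by rw [C.ratio_self, map_one]
  t_open i j := by rw [← Scheme.preimage_basicOpen, C.basicOpen_ratio]; rfl
  t_mul i j l := by
    show U.toScheme.presheaf.map (homOfLE (U.ι.preimage_mono (inf_le_right : C.O i ⊓ C.O j ≤ C.O j))).op _ =
      U.toScheme.presheaf.map (homOfLE (U.ι.preimage_mono (inf_le_right : C.O i ⊓ C.O j ≤ C.O j))).op _ *
        U.toScheme.presheaf.map (homOfLE (U.ι.preimage_mono (inf_le_left : C.O i ⊓ C.O j ≤ C.O i))).op _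
    rw [res_ι_app U (inf_le_right : C.O i ⊓ C.O j ≤ C.O j) (C.ratio j l),
      res_ι_app U (inf_le_right : C.O i ⊓ C.O j ≤ C.O j) (C.ratio j i),
      res_ι_app U (inf_le_left : C.O i ⊓ C.O j ≤ C.O i) (C.ratio i l), ← map_mul, C.ratio_mul]

variable (U) in
/-- Constants on the semi-stable locus. -/
def cstU : k →+* Γ(U.toScheme, ⊤) :=
  ((Scheme.ΓSpecIso (CommRingCat.of k)).inv ≫ (U.ι ≫ X.hom).appTop).hom

theorem constV_cstU (O : X.left.Opens) (c : k) :
    constV (cstU U) (U.ι ⁻¹ᵁ O) c = U.ι.app O (cst O c) := by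
  rw [Scheme.Hom.app_eq_appLE, appLE_cst]
  rfl

/-- Two maps agreeing on the coordinates of a chart agree in projective space. -/
theorem toProj_comp_eq {R : Type u} [CommRing R] {Z T : Scheme.{u}} (φc : R →+* Γ(Z, ⊤)) {n : ℕ} (F : RatioFamily Z n)
    (q p : T ⟶ Z) {P : T.Opens} (hP : IsAffineOpen P) (i : Fin (n + 1)) (hq : P ≤ q ⁻¹ᵁ F.U i) (hp : P ≤ p ⁻¹ᵁ F.U i)
    (hconst : ∀ c, q.appLE (F.U i) P hq (constV φc (F.U i) c) = p.appLE (F.U i) P hp (constV φc (F.U i) c))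
    (ht : ∀ l, q.appLE (F.U i) P hq (F.t i l) = p.appLE (F.U i) P hp (F.t i l)) :
    P.ι ≫ q ≫ toProj φc F = P.ι ≫ p ≫ toProj φc F := by
  have hvi : IsUnit (F.t i i) := (congrArg IsUnit (F.t_self i)).mpr isUnit_one
  have hfs : (F.affine i).fromSpec ≫ toProj φc F = AmpleEmb.pt φc (F.U i) (F.t i) i hvi := by
    rw [IsAffineOpen.fromSpec, Category.assoc, AmpleEmb.ι_toProj, AmpleEmb.piece,
      ← IsAffineOpen.isoSpec_hom (hU := F.affine i), Iso.inv_hom_id_assoc]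
  have hfac : ∀ (r : T ⟶ Z) (hr : P ≤ r ⁻¹ᵁ F.U i),
      P.ι ≫ r ≫ toProj φc F = P.toSpecΓ ≫ Spec.map (r.appLE (F.U i) P hr) ≫ AmpleEmb.pt φc (F.U i) (F.t i) i hvi := by
    intro r hr
    rw [← hfs, ← hP.toSpecΓ_fromSpec, Category.assoc,
      ← IsAffineOpen.SpecMap_appLE_fromSpec_assoc r (F.affine i) hP hr]
  rw [hfac q hq, hfac p hp]
  letI : Algebra R Γ(Z, F.U i) := (constV φc (F.U i)).toAlgebra
  letI : Algebra R Γ(T, P) := ((p.appLE (F.U i) P hp).hom.comp (constV φc (F.U i))).toAlgebra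
  congr 1
  rw [AmpleEmb.pt, ← CommRingCat.ofHom_hom (q.appLE (F.U i) P hq), ← CommRingCat.ofHom_hom (p.appLE (F.U i) P hp),
    ProjMap.specMap_point _ hconst, ProjMap.specMap_point _ (fun _ => rfl)]
  congr 1
  exact funext ht

/-- The map to projective space. -/
abbrev Coords.toP (C : Coords B U) : U.toScheme ⟶ CohB1.ProjSpace C.M k := toProj (cstU U) C.family

theorem Coords.toP_toSpec (C : Coords B U) :
    C.toP ≫ CohB1.ProjSpace.toSpec C.M k = U.ι ≫ X.hom :=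
  AmpleEmb.toProj_toSpec _ _ _ rfl

/-- The map to projective space is invariant. -/
theorem Coords.invariant (C : Coords B U) (aU : AlgGrp.Action G (Over.mk (U.ι ≫ X.hom)))
    (haU : aU.act ≫ jO U = (G ◁ jO U) ≫ a.act) :
    aU.act.left ≫ C.toP = (snd G (Over.mk (U.ι ≫ X.hom))).left ≫ C.toP := by
  let GU := G ⊗ Over.mk (U.ι ≫ X.hom)
  let p : GU.left ⟶ U.toScheme := (snd G (Over.mk (U.ι ≫ X.hom))).left
  let q : GU.left ⟶ U.toScheme := aU.act.left
  let j := (G ◁ jO U).left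
  have hq : j ≫ a.act.left = q ≫ U.ι := (congrArg CommaMorphism.left haU).symm
  have hp : j ≫ (snd G X).left = p ≫ U.ι := congrArg CommaMorphism.left (whiskerLeft_snd G (jO U))
  have hinv : ∀ i z, q z ∈ U.ι ⁻¹ᵁ C.O i ↔ p z ∈ U.ι ⁻¹ᵁ C.O i := fun i z => by
    show (q ≫ U.ι) z ∈ C.O i ↔ (p ≫ U.ι) z ∈ C.O i
    rw [← hq, ← hp, Scheme.Hom.comp_apply, Scheme.Hom.comp_apply]
    exact invOpen_of_nonvanishing (C.inv i) (C.eq i) _
  let J := {P : GU.left.Opens // IsAffineOpen P ∧ ∃ i, P ≤ p ⁻¹ᵁ (U.ι ⁻¹ᵁ C.O i)}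
  have hcov : IsOpenCover (fun P : J => P.1) := top_unique fun z _ => by
    obtain ⟨i, hi⟩ := Opens.mem_iSup.1 (C.iSup_preimage.ge (Opens.mem_top (p z)))
    obtain ⟨P, hP, hzP, hPle⟩ := exists_isAffineOpen_mem_and_subset (X := GU.left) (x := z)
      (U := p ⁻¹ᵁ (U.ι ⁻¹ᵁ C.O i)) hi
    exact Opens.mem_iSup.2 ⟨⟨P, hP, i, hPle⟩, hzP⟩
  refine (GU.left.openCoverOfIsOpenCover _ hcov).hom_ext _ _ ?_
  rintro ⟨P, hP, i, hPi⟩
  show P.ι ≫ q ≫ C.toP = P.ι ≫ p ≫ C.toP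
  have hPq : P ≤ q ⁻¹ᵁ (U.ι ⁻¹ᵁ C.O i) := fun z hz => (hinv i z).2 (hPi hz)
  have hconst : ∀ c : k, q.appLE (C.family.U i) P hPq (constV (cstU U) (C.family.U i) c) =
      p.appLE (C.family.U i) P hPi (constV (cstU U) (C.family.U i) c) := fun c => by
    show q.appLE (U.ι ⁻¹ᵁ C.O i) P hPq (constV (cstU U) (U.ι ⁻¹ᵁ C.O i) c) =
      p.appLE (U.ι ⁻¹ᵁ C.O i) P hPi (constV (cstU U) (U.ι ⁻¹ᵁ C.O i) c)
    rw [constV_cstU, Scheme.Hom.app_eq_appLE,
      appLE_of_comp q U.ι le_rfl hPq (cst (C.O i) c) _ rfl hPq, appLE_of_comp p U.ι le_rfl hPi (cst (C.O i) c) _ rfl hPi,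
      appLE_cst, appLE_cst, Category.assoc, Category.assoc,
      show q ≫ U.ι ≫ X.hom = GU.hom from Over.w aU.act,
      show p ≫ U.ι ≫ X.hom = GU.hom from Over.w (snd G (Over.mk (U.ι ≫ X.hom)))]
  have ht : ∀ l, q.appLE (C.family.U i) P hPq (C.family.t i l) = p.appLE (C.family.U i) P hPi (C.family.t i l) := fun l => by
    show q.appLE (U.ι ⁻¹ᵁ C.O i) P hPq (U.ι.app (C.O i) (C.ratio i l)) =
      p.appLE (U.ι ⁻¹ᵁ C.O i) P hPi (U.ι.app (C.O i) (C.ratio i l))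
    have hr := invOn_ratio (C.inv i) (C.inv l) (C.eq i).subset (C.ratio_spec i l)
    let P' : (G ⊗ X).left.Opens := a.act.left ⁻¹ᵁ C.O i ⊓ (snd G X).left ⁻¹ᵁ C.O i
    have hP' : P ≤ j ⁻¹ᵁ P' := fun z hz => by
      refine ⟨?_, ?_⟩
      · show a.act.left (j z) ∈ C.O i
        rw [← Scheme.Hom.comp_apply, hq]; exact hPq hz
      · show (snd G X).left (j z) ∈ C.O i
        rw [← Scheme.Hom.comp_apply, hp]; exact hPi hz
    rw [Scheme.Hom.app_eq_appLE, appLE_of_comp q U.ι le_rfl hPq (C.ratio i l) _ rfl hPq,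
      appLE_of_comp p U.ι le_rfl hPi (C.ratio i l) _ rfl hPi,
      ← appLE_of_comp j a.act.left (P := P') inf_le_left hP' (C.ratio i l) _ hq hPq,
      ← appLE_of_comp j (snd G X).left (P := P') inf_le_right hP' (C.ratio i l) _ hp hPi,
      hr.appLE P' inf_le_left inf_le_right]
  exact toProj_comp_eq (cstU U) C.family q p hP i hPq hPi hconst ht

/-- The quotient of the semi-stable locus. -/
theorem exists_quotient [IsAffineHom G.hom] [LocallyOfFiniteType X.hom] [QuasiCompact X.hom]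
    {A : Type u} [CommRing A] [HopfAlgebra k A] (hA : HopfRep.IsLinearlyReductive k A)
    (e : CoactBr.sp k A ≅ G) [IsMonHom e.hom] (C : Coords B U)
    (aU : AlgGrp.Action G (Over.mk (U.ι ≫ X.hom))) (haU : aU.act ≫ jO U = (G ◁ jO U) ≫ a.act) :
    ∃ (Y : Over (Spec (CommRingCat.of k))) (φ : Over.mk (U.ι ≫ X.hom) ⟶ Y),
      GIT.IsUnivCatQuot aU φ ∧ IsAffineHom φ.left ∧ GIT.IsUnivSubmersive φ.left ∧
      IsSeparated Y.hom ∧ LocallyOfFiniteType Y.hom ∧ (∃ M : Y.left.Modules, CohB1.IsAmple M) ∧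
      ∀ y : Y.left, ∃ (V : Y.left.Opens) (O : X.left.Opens) (f : Γ(B.V.left, ⊤)),
        y ∈ V ∧ IsAffineOpen V ∧ B.IsInvSection C.N f ∧ (O : Set X.left) = GLinSh.nonvanishing B.π f ∧
        IsAffineOpen O ∧ φ.left ⁻¹ᵁ V = U.ι ⁻¹ᵁ O := by
  classical
  haveI : IsLocallyNoetherian X.left := LocallyOfFiniteType.isLocallyNoetherian X.hom
  haveI : CompactSpace X.left := QuasiCompact.compactSpace_of_compactSpace X.hom
  haveI : IsNoetherian X.left := ⟨⟩
  haveI : NoetherianSpace U.toScheme := U.ι.isOpenEmbedding.isInducing.noetherianSpace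
  haveI : CompactSpace U.toScheme := NoetherianSpace.compactSpace _
  let P := CohB1.ProjSpace C.M k
  let W : P.Opens := ⨆ i : C.gen, stdOpen C.M k i
  have hpre : ∀ i, C.toP ⁻¹ᵁ stdOpen C.M k i = U.ι ⁻¹ᵁ C.O i := AmpleEmb.preimage_basicOpen _ _
  have hr : Set.range C.toP ⊆ Set.range W.ι := by
    rw [Scheme.Opens.range_ι]
    rintro _ ⟨x, rfl⟩
    obtain ⟨i, hi, hxi⟩ := C.cover x.1 x.2
    exact Opens.mem_iSup.2 ⟨⟨i, hi⟩, (hpre i).ge hxi⟩
  let Φ := IsOpenImmersion.lift W.ι C.toP hr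
  have hΦ : Φ ≫ W.ι = C.toP := IsOpenImmersion.lift_fac _ _ _
  let Y : Over (Spec (CommRingCat.of k)) := Over.mk (Φ.imageι ≫ W.ι ≫ CohB1.ProjSpace.toSpec C.M k)
  let φ : Over.mk (U.ι ≫ X.hom) ⟶ Y := Over.homMk Φ.toImage (by
    show Φ.toImage ≫ Φ.imageι ≫ W.ι ≫ CohB1.ProjSpace.toSpec C.M k = U.ι ≫ X.hom
    rw [Scheme.Hom.toImage_imageι_assoc, ← Category.assoc, hΦ, C.toP_toSpec])
  let ιY : Y.left ⟶ P := Φ.imageι ≫ W.ι
  have hφY : φ.left ≫ ιY = C.toP := by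
    show Φ.toImage ≫ Φ.imageι ≫ W.ι = _
    rw [Scheme.Hom.toImage_imageι_assoc, hΦ]
  haveI : IsImmersion ιY := inferInstance
  haveI : Mono ιY := inferInstance
  have hinv : GIT.IsInvariant aU φ := by
    refine Over.OverMorphism.ext ((cancel_mono ιY).1 ?_)
    rw [Over.comp_left, Over.comp_left, Category.assoc, Category.assoc, hφY]
    exact C.invariant aU haU
  have hV : ∀ i ∈ C.gen, IsAffineOpen (W.ι ⁻¹ᵁ stdOpen C.M k i) := fun i hi =>
    (AmpleEmb.isAffineOpen_stdOpen C.M k i).preimage_of_isOpenImmersion _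
      ((le_iSup (fun i : C.gen => stdOpen C.M k i) ⟨i, hi⟩).trans (Scheme.Opens.opensRange_ι W).ge)
  have hmem : ∀ y : Y.left, ∃ i ∈ C.gen, y ∈ ιY ⁻¹ᵁ stdOpen C.M k i := fun y => by
    obtain ⟨⟨i, hi⟩, hy⟩ := Opens.mem_iSup.1 (Φ.imageι y).2
    exact ⟨i, hi, hy⟩
  have hφV : ∀ i, φ.left ⁻¹ᵁ (ιY ⁻¹ᵁ stdOpen C.M k i) = U.ι ⁻¹ᵁ C.O i := fun i => by
    rw [← Scheme.Hom.comp_preimage, hφY]; exact hpre i
  have haff : ∀ i ∈ C.gen, IsAffineOpen (ιY ⁻¹ᵁ stdOpen C.M k i) := fun i hi => by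
    show IsAffineOpen (Φ.imageι ⁻¹ᵁ (W.ι ⁻¹ᵁ stdOpen C.M k i))
    exact (hV i hi).preimage Φ.imageι
  have hloc : ∀ y : Y.left, ∃ V : Y.left.Opens, y ∈ V ∧ IsAffineOpen V ∧ IsAffineOpen (φ.left ⁻¹ᵁ V) ∧
      Function.Injective (φ.left.app V) ∧ {f | GIT.IsInvSection aU φ V f} ⊆ Set.range (φ.left.app V) := by
    intro y
    obtain ⟨i, hi, hy⟩ := hmem y
    let V := ιY ⁻¹ᵁ stdOpen C.M k i
    refine ⟨V, hy, haff i hi, (hφV i).symm ▸ C.family.affine i, Scheme.Hom.toImage_app_injective Φ ⟨_, hV i hi⟩,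
      fun f hf => ?_⟩
    let O := φ.left ⁻¹ᵁ V
    have hOle : O ≤ U.ι ⁻¹ᵁ C.O i := (hφV i).le
    have hbij : Function.Bijective (U.ι.appLE (C.O i) O hOle) :=
      GitTorsor.bijective_appLE U.ι ((C.le i).trans (Scheme.Opens.opensRange_ι U).ge) (hφV i)
    obtain ⟨h, rfl⟩ := hbij.2 f
    have hh : InvOn a (C.O i) h := by
      let j := (G ◁ jO U).left
      let q : (G ⊗ Over.mk (U.ι ≫ X.hom)).left ⟶ U.toScheme := aU.act.left
      let p : (G ⊗ Over.mk (U.ι ≫ X.hom)).left ⟶ U.toScheme := (snd G (Over.mk (U.ι ≫ X.hom))).left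
      have hq : j ≫ a.act.left = q ≫ U.ι := (congrArg CommaMorphism.left haU).symm
      have hp : j ≫ (snd G X).left = p ≫ U.ι := congrArg CommaMorphism.left (whiskerLeft_snd G (jO U))
      let P' : (G ⊗ X).left.Opens := a.act.left ⁻¹ᵁ C.O i ⊓ (snd G X).left ⁻¹ᵁ C.O i
      have hPe : q ⁻¹ᵁ O ⊓ p ⁻¹ᵁ O = j ⁻¹ᵁ P' := by
        rw [show O = U.ι ⁻¹ᵁ C.O i from hφV i, ← Scheme.Hom.comp_preimage, ← Scheme.Hom.comp_preimage,
          ← hq, ← hp]
        rfl
      show a.act.left.appLE (C.O i) P' inf_le_left h = (snd G X).left.appLE (C.O i) P' inf_le_right h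
      refine (GitTorsor.bijective_appLE j (le_opensRange_whiskerLeft (inf_le_right.trans
        ((snd G X).left.preimage_mono (C.le i)))) hPe).1 ?_
      have h1 : q ⁻¹ᵁ O ⊓ p ⁻¹ᵁ O ≤ (q ≫ U.ι) ⁻¹ᵁ C.O i := inf_le_left.trans (q.preimage_mono hOle)
      have h2 : q ⁻¹ᵁ O ⊓ p ⁻¹ᵁ O ≤ (p ≫ U.ι) ⁻¹ᵁ C.O i := inf_le_right.trans (p.preimage_mono hOle)
      rw [appLE_of_comp j a.act.left inf_le_left hPe.le h _ hq h1,
        appLE_of_comp j (snd G X).left inf_le_right hPe.le h _ hp h2,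
        ← appLE_of_comp q U.ι hOle inf_le_left h _ rfl h1, ← appLE_of_comp p U.ι hOle inf_le_right h _ rfl h2]
      exact hf
    let R : Subring Γ(X.left, C.O i) := (φ.left.app V).hom.range.comap (U.ι.appLE (C.O i) O hOle).hom
    refine (show Subring.closure _ ≤ R from Subring.closure_le.2 ?_) (C.closure i hi h hh)
    have hrange : ∀ x : Γ(P, stdOpen C.M k i),
        C.toP.appLE (stdOpen C.M k i) O ((hφV i).le.trans (hpre i).ge) x ∈ (φ.left.app V).hom.range := fun x =>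
      ⟨ιY.app (stdOpen C.M k i) x, by
        show φ.left.app V (ιY.app (stdOpen C.M k i) x) = _
        rw [Scheme.Hom.app_eq_appLE, Scheme.Hom.app_eq_appLE, appLE_of_comp φ.left ιY le_rfl le_rfl x _ hφY ((hφV i).le.trans (hpre i).ge)]
        rfl⟩
    rintro r (⟨c, rfl⟩ | ⟨l, hl⟩)
    · show U.ι.appLE (C.O i) O hOle (cst (C.O i) c) ∈ (φ.left.app V).hom.range
      have := hrange ((CohB1.ProjSpace.toSpec C.M k).appLE ⊤ (stdOpen C.M k i) le_top
        ((Scheme.ΓSpecIso (CommRingCat.of k)).inv c))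
      rw [appLE_of_comp C.toP _ le_top _ _ _ C.toP_toSpec le_top] at this
      rw [appLE_cst]
      rw [map_appTop]
      exact this
    · show U.ι.appLE (C.O i) O hOle r ∈ (φ.left.app V).hom.range
      have hr : r = C.ratio i l := eq_of_mul_eq (C.inv i).1 (C.eq i).subset (hl.trans (C.ratio_spec i l).symm)
      have := hrange (coordRatio C.M k i l)
      have e0 := congrArg (U.toScheme.presheaf.map (homOfLE hOle).op) (AmpleEmb.toProj_appLE_ratio (cstU U) C.family i l)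
      erw [← CommRingCat.comp_apply, Scheme.Hom.appLE_map] at e0
      erw [e0] at this
      rw [hr]
      convert this using 1
      show U.ι.appLE (C.O i) O hOle (C.ratio i l) = U.toScheme.presheaf.map _ (U.ι.app (C.O i) (C.ratio i l))
      rw [Scheme.Hom.app_eq_appLE, ← CommRingCat.comp_apply, Scheme.Hom.appLE_map]
  obtain ⟨h1, h2⟩ := RedQuot.isUnivCatQuot_local hA e aU φ hinv hloc
  refine ⟨Y, φ, h1, ?_, h2, ?_, ?_, ?_, fun y => ?_⟩
  · refine isAffineHom_of_forall_exists_isAffineOpen φ.left fun y => ?_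
    obtain ⟨V, hy, hV, hV', -⟩ := hloc y
    exact ⟨V, hy, hV, hV'⟩
  · exact inferInstanceAs (IsSeparated (Φ.imageι ≫ W.ι ≫ CohB1.ProjSpace.toSpec C.M k))
  · exact inferInstanceAs (LocallyOfFiniteType (Φ.imageι ≫ W.ι ≫ CohB1.ProjSpace.toSpec C.M k))
  · haveI : CompactSpace ↥(Over.mk (U.ι ≫ X.hom)).left := inferInstanceAs (CompactSpace ↥U.toScheme)
    haveI : CompactSpace Y.left :=
      ⟨by rw [← (GitQuot.surjective_of_isUnivCatQuot aU φ h1).range_eq]; exact isCompact_range φ.left.continuous⟩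
    exact ⟨_, AmpleLib.isAmple_pullback_of_isInducing ιY ιY.isEmbedding.isInducing (AmpleEmb.isAmple_twistOne C.M k)⟩
  · obtain ⟨i, hi, hy⟩ := hmem y
    exact ⟨_, C.O i, C.F i, hy, haff i hi, C.inv i, C.eq i, C.affine i, hφV i⟩

end Groth.Agent.GitSS
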