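import Groth.Prelude.Def_GLinSh
import Groth.Agent.LinBunLib.Tot
import Mathlib

/-!
# Invariant sections of linearised line bundles

Charts, nonvanishing loci, ratios of sections of equal weight, and their invariance.
-/

set_option autoImplicit false
set_option backward.isDefEq.respectTransparency false
set_option backward.isDefEq.respectTransparency.types false
set_option linter.style.haveILetI false

noncomputable section

universe u

open CategoryTheory MonoidalCategory CartesianMonoidalCategory MonObj AlgebraicGeometry TopologicalSpace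

namespace Groth.Agent.GitSS

variable {S : Scheme.{u}} {G X : Over S} [GrpObj G] {a : AlgGrp.Action G X} (B : GLinSh.LinBun G a)

/-- Restriction of an `appLE`. -/
theorem res_app {U W : X.left.Opens} (h : W ≤ U) (c : Γ(X.left, U)) :
    GLinSh.res B.π h (B.π.left.app U c) = B.π.left.app W (X.left.presheaf.map (homOfLE h).op c) :=
  congr($(B.π.left.naturality (homOfLE h).op) c).symm

/-- Restrictions of restrictions. -/
theorem res_res {U V W : X.left.Opens} (h : V ≤ U) (h' : W ≤ V) (y : Γ(B.V.left, B.π.left ⁻¹ᵁ U)) :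
    GLinSh.res B.π h' (GLinSh.res B.π h y) = GLinSh.res B.π (h'.trans h) y := by
  simp only [GLinSh.res]
  rw [← CommRingCat.comp_apply, ← Functor.map_comp]
  rfl

/-- Restrictions of global functions. -/
theorem res_resTop {U W : X.left.Opens} (h : W ≤ U) (f : Γ(B.V.left, ⊤)) :
    GLinSh.res B.π h (GLinSh.resTop B.π U f) = GLinSh.resTop B.π W f := by
  simp only [GLinSh.res, GLinSh.resTop]
  rw [← CommRingCat.comp_apply, ← Functor.map_comp]
  rfl

theorem res_mul {U W : X.left.Opens} (h : W ≤ U) (p q : Γ(B.V.left, B.π.left ⁻¹ᵁ U)) :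
    GLinSh.res B.π h (p * q) = GLinSh.res B.π h p * GLinSh.res B.π h q := map_mul _ _ _

theorem res_pow {U W : X.left.Opens} (h : W ≤ U) (p : Γ(B.V.left, B.π.left ⁻¹ᵁ U)) (n : ℕ) :
    GLinSh.res B.π h (p ^ n) = GLinSh.res B.π h p ^ n := map_pow _ _ _

theorem resTop_mul (U : X.left.Opens) (p q : Γ(B.V.left, ⊤)) :
    GLinSh.resTop B.π U (p * q) = GLinSh.resTop B.π U p * GLinSh.resTop B.π U q := map_mul _ _ _

theorem resTop_add (U : X.left.Opens) (p q : Γ(B.V.left, ⊤)) :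
    GLinSh.resTop B.π U (p + q) = GLinSh.resTop B.π U p + GLinSh.resTop B.π U q := map_add _ _ _

/-- An affine chart: an affine open with an admissible coordinate. -/
structure Chart (W : X.left.Opens) (y : Γ(B.V.left, B.π.left ⁻¹ᵁ W)) : Prop where
  affine : IsAffineOpen W
  exists_chart : ∃ (U : X.left.Opens) (y₀ : Γ(B.V.left, B.π.left ⁻¹ᵁ U)) (h : W ≤ U),
    y₀ ∈ B.atlas.chart U ∧ y = GLinSh.res B.π h y₀

variable {B}

theorem Chart.restrict {W : X.left.Opens} {y : Γ(B.V.left, B.π.left ⁻¹ᵁ W)} (hy : Chart B W y)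
    {W' : X.left.Opens} (hW' : IsAffineOpen W') (h : W' ≤ W) : Chart B W' (GLinSh.res B.π h y) := by
  obtain ⟨U, y₀, hU, hy₀, rfl⟩ := hy.exists_chart
  exact ⟨hW', U, y₀, h.trans hU, hy₀, res_res B hU h y₀⟩

theorem Chart.bijective {W : X.left.Opens} {y : Γ(B.V.left, B.π.left ⁻¹ᵁ W)} (hy : Chart B W y) :
    Function.Bijective (Polynomial.eval₂RingHom (B.π.left.app W).hom y) := by
  obtain ⟨U, y₀, hU, hy₀, rfl⟩ := hy.exists_chart
  exact B.atlas.coord U y₀ hy₀ W hy.affine hU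

variable (B) in
/-- Charts exist around every point, inside any open. -/
theorem exists_chart {O : X.left.Opens} {x : X.left} (hx : x ∈ O) :
    ∃ (W : X.left.Opens) (y : Γ(B.V.left, B.π.left ⁻¹ᵁ W)), x ∈ W ∧ W ≤ O ∧ Chart B W y := by
  obtain ⟨U, hxU, y, hy⟩ := B.atlas.cover x
  obtain ⟨W, hW, hxW, hWU⟩ := exists_isAffineOpen_mem_and_subset (X := X.left) (x := x) (U := O ⊓ U) ⟨hx, hxU⟩
  exact ⟨W, GLinSh.res B.π (fun z hz => (hWU hz).2) y, hxW, fun z hz => (hWU hz).1, hW, U, y, _, hy, rfl⟩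

theorem weight_chart {n : ℕ} {f : Γ(B.V.left, ⊤)} (hf : GLinSh.HasWeight B.atlas.chart n f) {W : X.left.Opens}
    {y : Γ(B.V.left, B.π.left ⁻¹ᵁ W)} (hy : Chart B W y) :
    ∃ c : Γ(X.left, W), GLinSh.resTop B.π W f = B.π.left.app W c * y ^ n := by
  obtain ⟨U, y₀, hU, hy₀, rfl⟩ := hy.exists_chart
  obtain ⟨c, hc⟩ := hf U y₀ hy₀
  refine ⟨X.left.presheaf.map (homOfLE hU).op c, ?_⟩
  rw [← res_app B hU, ← res_pow, ← res_mul, ← hc, res_resTop]

/-- Coefficients in a chart are unique. -/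
theorem Chart.cancel {W : X.left.Opens} {y : Γ(B.V.left, B.π.left ⁻¹ᵁ W)} (hy : Chart B W y) {n : ℕ}
    {c c' : Γ(X.left, W)} (h : B.π.left.app W c * y ^ n = B.π.left.app W c' * y ^ n) : c = c' := by
  refine Polynomial.C_injective ?_
  refine (mul_left_injective₀' n) (hy.bijective.1 ?_)
  simp only [Polynomial.coe_eval₂RingHom, Polynomial.eval₂_mul, Polynomial.eval₂_X_pow, Polynomial.eval₂_C]
  exact h
where
  mul_left_injective₀' (n : ℕ) : Function.Injective fun p : Polynomial Γ(X.left, W) => p * Polynomial.X ^ n :=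
    fun p q h => by
      ext i
      simpa using congrArg (fun r => Polynomial.coeff r (i + n)) h

/-- The nonvanishing locus in a chart. -/
theorem mem_nonvanishing_iff {W : X.left.Opens} {y : Γ(B.V.left, B.π.left ⁻¹ᵁ W)} (hy : Chart B W y) {n : ℕ}
    {f : Γ(B.V.left, ⊤)} {c : Γ(X.left, W)} (hc : GLinSh.resTop B.π W f = B.π.left.app W c * y ^ n)
    {x : X.left} (hx : x ∈ W) : x ∈ GLinSh.nonvanishing B.π f ↔ x ∈ X.left.basicOpen c := by
  haveI : IsAffineHom B.π.left := B.atlas.affine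
  have hb : B.V.left.basicOpen (GLinSh.resTop B.π W f) =
      (B.π.left ⁻¹ᵁ X.left.basicOpen c) ⊓ B.V.left.basicOpen (y ^ n) := by
    rw [hc, Scheme.basicOpen_mul, Scheme.preimage_basicOpen]
  have hb' : B.V.left.basicOpen (GLinSh.resTop B.π W f) = (B.π.left ⁻¹ᵁ W) ⊓ B.V.left.basicOpen f :=
    Scheme.basicOpen_res _ _ _
  constructor
  · rintro ⟨v, hv, rfl⟩
    have h1 : v ∈ B.V.left.basicOpen (GLinSh.resTop B.π W f) := by rw [hb']; exact ⟨hx, hv⟩
    rw [hb] at h1
    exact h1.1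
  · intro hxc
    have hV : IsAffineOpen (B.π.left ⁻¹ᵁ W) := IsAffineOpen.preimage hy.affine B.π.left
    let e := RingEquiv.ofBijective _ hy.bijective
    let q := IsAffineOpen.primeIdealOf hy.affine ⟨x, hx⟩
    let P₀ : Ideal (Polynomial Γ(X.left, W)) := q.asIdeal.map Polynomial.C
    haveI := q.2
    haveI : P₀.IsPrime := Ideal.isPrime_map_C_of_isPrime
    let P : PrimeSpectrum Γ(B.V.left, B.π.left ⁻¹ᵁ W) := ⟨P₀.comap e.symm.toRingHom, inferInstance⟩
    have hP : P.asIdeal.comap (B.π.left.appLE W (B.π.left ⁻¹ᵁ W) le_rfl).hom = q.asIdeal := by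
      ext r
      have h1 : e.symm (B.π.left.app W r) = Polynomial.C r := by
        rw [RingEquiv.symm_apply_eq]
        simp [e]
      show B.π.left.appLE W (B.π.left ⁻¹ᵁ W) le_rfl r ∈ P₀.comap e.symm.toRingHom ↔ _
      rw [← Scheme.Hom.app_eq_appLE, Ideal.mem_comap]
      show e.symm (B.π.left.app W r) ∈ P₀ ↔ _
      rw [h1, Ideal.mem_map_C_iff]
      refine ⟨fun h => by simpa using h 0, fun h i => ?_⟩
      rw [Polynomial.coeff_C]
      split_ifs
      · exact h
      · exact Ideal.zero_mem _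
    let v := hV.fromSpec P
    have hvW : v ∈ B.π.left ⁻¹ᵁ W := by rw [← SetLike.mem_coe, ← hV.range_fromSpec]; exact ⟨P, rfl⟩
    have hπv : B.π.left v = x := by
      have h1 := IsAffineOpen.SpecMap_appLE_fromSpec B.π.left hy.affine hV le_rfl
      have h2 : (Spec.map (B.π.left.appLE W (B.π.left ⁻¹ᵁ W) le_rfl) ≫ IsAffineOpen.fromSpec hy.affine) P = x := by
        rw [Scheme.Hom.comp_apply, show Spec.map (B.π.left.appLE W (B.π.left ⁻¹ᵁ W) le_rfl) P = q from
          PrimeSpectrum.ext hP]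
        exact IsAffineOpen.fromSpec_primeIdealOf hy.affine ⟨x, hx⟩
      rw [h1] at h2
      exact h2
    have hvy : v ∈ B.V.left.basicOpen (y ^ n) := by
      have h1 : P ∈ hV.fromSpec ⁻¹ᵁ B.V.left.basicOpen (y ^ n) := by
        rw [hV.fromSpec_preimage_basicOpen]
        show y ^ n ∉ P₀.comap e.symm.toRingHom
        have h2 : e.symm (y ^ n) = Polynomial.X ^ n := by
          rw [RingEquiv.symm_apply_eq]
          simp [e]
        rw [Ideal.mem_comap]
        show e.symm (y ^ n) ∉ P₀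
        rw [h2, Ideal.mem_map_C_iff]
        intro h
        exact q.2.ne_top ((Ideal.eq_top_iff_one _).2 (by simpa using h n))
      exact h1
    refine ⟨v, ?_, hπv⟩
    have : v ∈ B.V.left.basicOpen (GLinSh.resTop B.π W f) := by
      rw [hb]; exact ⟨by show B.π.left v ∈ X.left.basicOpen c; rw [hπv]; exact hxc, hvy⟩
    rw [hb'] at this
    exact this.2

variable (B) in
/-- The nonvanishing locus of a section is open. -/
theorem isOpen_nonvanishing {n : ℕ} {f : Γ(B.V.left, ⊤)} (hf : GLinSh.HasWeight B.atlas.chart n f) :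
    IsOpen (GLinSh.nonvanishing B.π f) := by
  refine isOpen_iff_forall_mem_open.2 fun x hx => ?_
  obtain ⟨W, y, hxW, -, hy⟩ := exists_chart B (O := ⊤) (x := x) trivial
  obtain ⟨c, hc⟩ := weight_chart hf hy
  exact ⟨X.left.basicOpen c,
    fun z hz => (mem_nonvanishing_iff hy hc (X.left.basicOpen_le c hz)).2 hz,
    (X.left.basicOpen c).2, (mem_nonvanishing_iff hy hc hxW).1 hx⟩

/-- The nonvanishing locus as an open. -/
def nv {n : ℕ} {f : Γ(B.V.left, ⊤)} (hf : GLinSh.HasWeight B.atlas.chart n f) : X.left.Opens :=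
  ⟨GLinSh.nonvanishing B.π f, isOpen_nonvanishing B hf⟩

/-- A function vanishing nowhere is a unit. -/
theorem isUnit_of_forall_mem_basicOpen {U : X.left.Opens} (c : Γ(X.left, U)) (h : ∀ x ∈ U, x ∈ X.left.basicOpen c) :
    IsUnit c := by
  have h1 : IsUnit (X.left.presheaf.map (homOfLE (X.left.basicOpen_le c)).op c) :=
    RingedSpace.isUnit_res_basicOpen X.left.toLocallyRingedSpace.toRingedSpace c
  let i : X.left.basicOpen c ⟶ U := homOfLE (X.left.basicOpen_le c)
  haveI : IsIso i := ⟨homOfLE h, Subsingleton.elim _ _, Subsingleton.elim _ _⟩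
  haveI : IsIso (X.left.presheaf.map i.op) := inferInstance
  have h2 := h1.map (inv (X.left.presheaf.map i.op)).hom
  rwa [show (inv (X.left.presheaf.map i.op)).hom (X.left.presheaf.map i.op c) = c from
    congr($(IsIso.hom_inv_id (X.left.presheaf.map i.op)) c)] at h2

/-- In a chart inside the nonvanishing locus the coefficient is a unit. -/
theorem isUnit_coeff {W : X.left.Opens} {y : Γ(B.V.left, B.π.left ⁻¹ᵁ W)} (hy : Chart B W y) {n : ℕ}
    {f : Γ(B.V.left, ⊤)} {c : Γ(X.left, W)} (hc : GLinSh.resTop B.π W f = B.π.left.app W c * y ^ n)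
    (hW : (W : Set X.left) ⊆ GLinSh.nonvanishing B.π f) : IsUnit c :=
  isUnit_of_forall_mem_basicOpen c fun _ hx => (mem_nonvanishing_iff hy hc hx).1 (hW hx)

/-- Multiplication by a section is injective over its nonvanishing locus. -/
theorem eq_of_mul_eq {n : ℕ} {f : Γ(B.V.left, ⊤)} (hf : GLinSh.HasWeight B.atlas.chart n f) {O : X.left.Opens}
    (hO : (O : Set X.left) ⊆ GLinSh.nonvanishing B.π f) {r r' : Γ(X.left, O)}
    (h : B.π.left.app O r * GLinSh.resTop B.π O f = B.π.left.app O r' * GLinSh.resTop B.π O f) : r = r' := by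
  refine X.left.sheaf.eq_of_locally_eq'
    (fun p : {W : X.left.Opens // W ≤ O ∧ ∃ y, Chart B W y} => p.1) O (fun p => homOfLE p.2.1) (fun x hx => ?_) r r'
    fun p => ?_
  · obtain ⟨W, y, hxW, hWO, hy⟩ := exists_chart B hx
    exact Opens.mem_iSup.2 ⟨⟨W, hWO, y, hy⟩, hxW⟩
  · obtain ⟨W, hWO, y, hy⟩ := p
    obtain ⟨c, hc⟩ := weight_chart hf hy
    have h' := congrArg (GLinSh.res B.π hWO) h
    rw [res_mul, res_mul, res_resTop, res_app, res_app, hc, ← _root_.mul_assoc, ← _root_.mul_assoc, ← map_mul, ← map_mul] at h'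
    exact (isUnit_coeff hy hc fun z hz => hO (hWO hz)).mul_left_injective (hy.cancel h')

/-- The ratio of two sections of the same weight. -/
theorem exists_ratio {n : ℕ} {f g : Γ(B.V.left, ⊤)} (hf : GLinSh.HasWeight B.atlas.chart n f)
    (hg : GLinSh.HasWeight B.atlas.chart n g) {O : X.left.Opens} (hO : (O : Set X.left) ⊆ GLinSh.nonvanishing B.π f) :
    ∃ r : Γ(X.left, O), B.π.left.app O r * GLinSh.resTop B.π O f = GLinSh.resTop B.π O g := by
  let J := {W : X.left.Opens // W ≤ O ∧ ∃ y, Chart B W y}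
  have hloc : ∀ p : J, ∃ r : Γ(X.left, p.1), B.π.left.app p.1 r * GLinSh.resTop B.π p.1 f = GLinSh.resTop B.π p.1 g := by
    rintro ⟨W, hWO, y, hy⟩
    obtain ⟨c, hc⟩ := weight_chart hf hy
    obtain ⟨d, hd⟩ := weight_chart hg hy
    obtain ⟨u, hu⟩ := isUnit_coeff hy hc fun z hz => hO (hWO hz)
    refine ⟨d * ↑u⁻¹, ?_⟩
    show B.π.left.app W (d * ↑u⁻¹) * GLinSh.resTop B.π W f = GLinSh.resTop B.π W g
    rw [hc, hd, ← _root_.mul_assoc, ← map_mul, _root_.mul_assoc, ← hu, Units.inv_mul, _root_.mul_one]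
  choose sf hsf using hloc
  have hcompat : TopCat.Presheaf.IsCompatible X.left.sheaf.1 (fun p : J => p.1) sf := fun p q => by
    refine eq_of_mul_eq hf (O := p.1 ⊓ q.1) (fun z hz => hO (p.2.1 hz.1)) ?_
    have e1 := congrArg (GLinSh.res B.π (inf_le_left : p.1 ⊓ q.1 ≤ p.1)) (hsf p)
    have e2 := congrArg (GLinSh.res B.π (inf_le_right : p.1 ⊓ q.1 ≤ q.1)) (hsf q)
    rw [res_mul, res_resTop, res_resTop, res_app] at e1 e2
    exact e1.trans e2.symm
  have hcov : O ≤ ⨆ p : J, p.1 := fun x hx => by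
    obtain ⟨W, y, hxW, hWO, hy⟩ := exists_chart B hx
    exact Opens.mem_iSup.2 ⟨⟨W, hWO, y, hy⟩, hxW⟩
  obtain ⟨r, hr, -⟩ := X.left.sheaf.existsUnique_gluing' (fun p : J => p.1) O (fun p => homOfLE p.2.1) hcov sf hcompat
  refine ⟨r, B.V.left.sheaf.eq_of_locally_eq' (fun p : J => B.π.left ⁻¹ᵁ p.1) (B.π.left ⁻¹ᵁ O)
    (fun p => homOfLE (B.π.left.preimage_mono p.2.1)) (fun v hv => ?_) _ _ fun p => ?_⟩
  · obtain ⟨p, hp⟩ := Opens.mem_iSup.1 (hcov (show B.π.left v ∈ O from hv))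
    exact Opens.mem_iSup.2 ⟨p, hp⟩
  · show GLinSh.res B.π p.2.1 _ = GLinSh.res B.π p.2.1 _
    rw [res_mul, res_resTop, res_resTop, res_app]
    exact (show X.left.presheaf.map (homOfLE p.2.1).op r = sf p from hr p) ▸ hsf p

variable (B) in
/-- Weights may be checked on a covering family of charts. -/
theorem hasWeight_of_charts {n : ℕ} {f : Γ(B.V.left, ⊤)}
    (h : ∀ x : X.left, ∃ (W : X.left.Opens) (y : Γ(B.V.left, B.π.left ⁻¹ᵁ W)), x ∈ W ∧ Chart B W y ∧
      ∃ c : Γ(X.left, W), GLinSh.resTop B.π W f = B.π.left.app W c * y ^ n) :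
    GLinSh.HasWeight B.atlas.chart n f := by
  intro U y₀ hy₀
  let J := {W : X.left.Opens // ∃ hWU : W ≤ U, IsAffineOpen W ∧
    ∃ c : Γ(X.left, W), GLinSh.resTop B.π W f = B.π.left.app W c * (GLinSh.res B.π hWU y₀) ^ n}
  have hcov : U ≤ ⨆ p : J, p.1 := fun x hxU => by
    obtain ⟨W, y, hxW, hy, c, hc⟩ := h x
    obtain ⟨U₁, y₁, hU₁, hy₁, rfl⟩ := hy.exists_chart
    obtain ⟨e, he, hlin⟩ := B.atlas.linear U U₁ y₀ y₁ hy₀ hy₁
    obtain ⟨W', hW', hxW', hle⟩ := exists_isAffineOpen_mem_and_subset (X := X.left) (x := x) (U := W ⊓ U) ⟨hxW, hxU⟩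
    have h1 : W' ≤ W := fun z hz => (hle hz).1
    have h2 : W' ≤ U := fun z hz => (hle hz).2
    have h3 : W' ≤ U ⊓ U₁ := fun z hz => ⟨h2 hz, hU₁ (h1 hz)⟩
    refine Opens.mem_iSup.2 ⟨⟨W', h2, hW',
      X.left.presheaf.map (homOfLE h1).op c * (X.left.presheaf.map (homOfLE h3).op e) ^ n, ?_⟩, hxW'⟩
    have hlin' := congrArg (GLinSh.res B.π h3) hlin
    rw [res_mul, res_res, res_res, res_app] at hlin'
    have hc' := congrArg (GLinSh.res B.π h1) hc
    rw [res_mul, res_pow, res_resTop, res_res, res_app, hlin', mul_pow, ← _root_.mul_assoc, ← map_pow, ← map_mul] at hc'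
    exact hc'
  choose hle haff sf hsf using fun p : J => p.2
  have hcompat : TopCat.Presheaf.IsCompatible X.left.sheaf.1 (fun p : J => p.1) sf := fun p q => by
    refine X.left.sheaf.eq_of_locally_eq'
      (fun W : {W : X.left.Opens // W ≤ p.1 ⊓ q.1 ∧ IsAffineOpen W} => W.1) (p.1 ⊓ q.1) (fun W => homOfLE W.2.1)
      (fun x hx => ?_) _ _ fun W => ?_
    · obtain ⟨W, hW, hxW, hWle⟩ := exists_isAffineOpen_mem_and_subset (X := X.left) (x := x) (U := p.1 ⊓ q.1) hx
      exact Opens.mem_iSup.2 ⟨⟨W, hWle, hW⟩, hxW⟩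
    · have hWp : W.1 ≤ p.1 := fun z hz => (W.2.1 hz).1
      have hWq : W.1 ≤ q.1 := fun z hz => (W.2.1 hz).2
      have hch : Chart B W.1 (GLinSh.res B.π (hWp.trans (hle p)) y₀) := ⟨W.2.2, U, y₀, _, hy₀, rfl⟩
      have e1 := congrArg (GLinSh.res B.π hWp) (hsf p)
      have e2 := congrArg (GLinSh.res B.π hWq) (hsf q)
      rw [res_mul, res_pow, res_resTop, res_res, res_app] at e1 e2
      have := hch.cancel (e1.symm.trans e2)
      show X.left.presheaf.map _ (X.left.presheaf.map _ (sf p)) = X.left.presheaf.map _ (X.left.presheaf.map _ (sf q))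
      rw [← CommRingCat.comp_apply, ← Functor.map_comp, ← CommRingCat.comp_apply, ← Functor.map_comp]
      exact this
  obtain ⟨c, hc, -⟩ := X.left.sheaf.existsUnique_gluing' (fun p : J => p.1) U (fun p => homOfLE (hle p)) hcov sf hcompat
  refine ⟨c, B.V.left.sheaf.eq_of_locally_eq' (fun p : J => B.π.left ⁻¹ᵁ p.1) (B.π.left ⁻¹ᵁ U)
    (fun p => homOfLE (B.π.left.preimage_mono (hle p))) (fun v hv => ?_) _ _ fun p => ?_⟩
  · obtain ⟨p, hp⟩ := Opens.mem_iSup.1 (hcov (show B.π.left v ∈ U from hv))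
    exact Opens.mem_iSup.2 ⟨p, hp⟩
  · show GLinSh.res B.π (hle p) _ = GLinSh.res B.π (hle p) _
    rw [res_mul, res_pow, res_resTop, res_app]
    exact (show X.left.presheaf.map (homOfLE (hle p)).op c = sf p from hc p) ▸ hsf p

/-- Weights add. -/
theorem hasWeight_mul {n m : ℕ} {f g : Γ(B.V.left, ⊤)} (hf : GLinSh.HasWeight B.atlas.chart n f)
    (hg : GLinSh.HasWeight B.atlas.chart m g) : GLinSh.HasWeight B.atlas.chart (n + m) (f * g) := by
  intro U y hy
  obtain ⟨c, hc⟩ := hf U y hy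
  obtain ⟨d, hd⟩ := hg U y hy
  refine ⟨c * d, ?_⟩
  rw [resTop_mul, hc, hd, map_mul, pow_add]
  ring

theorem hasWeight_one : GLinSh.HasWeight B.atlas.chart 0 (1 : Γ(B.V.left, ⊤)) := fun U y _ =>
  ⟨1, by simp [GLinSh.resTop]⟩

theorem hasWeight_pow {n : ℕ} {f : Γ(B.V.left, ⊤)} (hf : GLinSh.HasWeight B.atlas.chart n f) (m : ℕ) :
    GLinSh.HasWeight B.atlas.chart (n * m) (f ^ m) := by
  induction m with
  | zero => simpa using hasWeight_one
  | succ m ih => rw [pow_succ, Nat.mul_succ]; exact hasWeight_mul ih hf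

theorem hasWeight_add {n : ℕ} {f g : Γ(B.V.left, ⊤)} (hf : GLinSh.HasWeight B.atlas.chart n f)
    (hg : GLinSh.HasWeight B.atlas.chart n g) : GLinSh.HasWeight B.atlas.chart n (f + g) := by
  intro U y hy
  obtain ⟨c, hc⟩ := hf U y hy
  obtain ⟨d, hd⟩ := hg U y hy
  refine ⟨c + d, ?_⟩
  rw [resTop_add, hc, hd, map_add, add_mul]

theorem hasWeight_zero (n : ℕ) : GLinSh.HasWeight B.atlas.chart n (0 : Γ(B.V.left, ⊤)) := fun U y _ =>
  ⟨0, by simp [GLinSh.resTop]⟩

theorem hasWeight_base (c : Γ(X.left, ⊤)) : GLinSh.HasWeight B.atlas.chart 0 (B.π.left.app ⊤ c) := fun U y _ =>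
  ⟨X.left.presheaf.map (homOfLE le_top).op c, by
    rw [pow_zero, _root_.mul_one]
    exact (res_app B (le_top : U ≤ ⊤) c).trans rfl⟩

theorem isInvSection_mul {n m : ℕ} {f g : Γ(B.V.left, ⊤)} (hf : B.IsInvSection n f) (hg : B.IsInvSection m g) :
    B.IsInvSection (n + m) (f * g) := by
  refine ⟨hasWeight_mul hf.1 hg.1, ?_⟩
  show B.lift.act.left.appTop (f * g) = (snd G B.V).left.appTop (f * g)
  rw [map_mul, map_mul, hf.2, hg.2]

theorem isInvSection_pow {n : ℕ} {f : Γ(B.V.left, ⊤)} (hf : B.IsInvSection n f) (m : ℕ) :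
    B.IsInvSection (n * m) (f ^ m) := by
  refine ⟨hasWeight_pow hf.1 m, ?_⟩
  show B.lift.act.left.appTop (f ^ m) = (snd G B.V).left.appTop (f ^ m)
  rw [map_pow, map_pow, hf.2]

theorem nonvanishing_pow (f : Γ(B.V.left, ⊤)) {m : ℕ} (hm : 0 < m) :
    GLinSh.nonvanishing B.π (f ^ m) = GLinSh.nonvanishing B.π f := by
  rw [GLinSh.nonvanishing, GLinSh.nonvanishing, Scheme.basicOpen_pow _ _ hm]

/-- Invariance of the nonvanishing locus of an invariant function. -/
theorem act_mem_nonvanishing_iff {f : Γ(B.V.left, ⊤)} (hf : GLinSh.IsInvFn B.lift f) (z : (G ⊗ X).left) :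
    a.act.left z ∈ GLinSh.nonvanishing B.π f ↔ (snd G X).left z ∈ GLinSh.nonvanishing B.π f := by
  have hbasic : B.lift.act.left ⁻¹ᵁ B.V.left.basicOpen f = (snd G B.V).left ⁻¹ᵁ B.V.left.basicOpen f := by
    rw [Scheme.preimage_basicOpen_top, Scheme.preimage_basicOpen_top, hf]
  have h1 : ∀ z : (G ⊗ X).left, (snd G X).left z ∈ GLinSh.nonvanishing B.π f →
      a.act.left z ∈ GLinSh.nonvanishing B.π f := by
    rintro z ⟨v, hv, hvz⟩
    have sq : IsPullback (G ◁ B.π).left (snd G B.V).left (snd G X).left B.π.left :=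
      ((IsPullback.of_right (h₁₂ := fst G X) (v₁₃ := toUnit G) (h₂₂ := toUnit X) (v₁₁ := snd G B.V) ?_
        (whiskerLeft_snd G B.π) (isPullback_prod G X)).map (Over.forget S))
    · obtain ⟨w, hw₁, hw₂⟩ := exists_pt sq z v hvz.symm
      have hw : w ∈ (snd G B.V).left ⁻¹ᵁ B.V.left.basicOpen f := by
        show (snd G B.V).left w ∈ B.V.left.basicOpen f; rw [hw₂]; exact hv
      rw [← hbasic] at hw
      refine ⟨B.lift.act.left w, hw, ?_⟩
      have e : B.lift.act.left ≫ B.π.left = (G ◁ B.π).left ≫ a.act.left := by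
        rw [← Over.comp_left, ← Over.comp_left, B.lift_π]
      show B.π.left (B.lift.act.left w) = a.act.left z
      rw [← Scheme.Hom.comp_apply, e, Scheme.Hom.comp_apply, hw₁]
    · rw [whiskerLeft_fst, comp_toUnit]
      exact isPullback_prod G B.V
  refine ⟨fun h => ?_, h1 z⟩
  let σ : G ⊗ X ⟶ G ⊗ X := lift ((fst G X)⁻¹) a.act
  have hσ₁ : σ ≫ snd G X = a.act := lift_snd _ _
  have hσ₂ : σ ≫ a.act = snd G X := by
    have e1 : lift (fst G X) (snd G X) = 𝟙 (G ⊗ X) := CartesianMonoidalCategory.lift_fst_snd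
    calc σ ≫ a.act = lift ((fst G X)⁻¹) (lift (fst G X) (snd G X) ≫ a.act) ≫ a.act := by rw [e1, Category.id_comp]
      _ = lift ((fst G X)⁻¹ * fst G X) (snd G X) ≫ a.act := by
          rw [Hom.mul_def, ← lift_whiskerRight, Category.assoc, a.mul_act, lift_lift_associator_hom_assoc,
            lift_whiskerLeft_assoc]
      _ = snd G X := by
          rw [inv_mul_cancel, Hom.one_def, ← lift_whiskerRight, Category.assoc, a.one_act,
            CartesianMonoidalCategory.leftUnitor_hom, lift_snd]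
  have := h1 (σ.left z) (by
    show (snd G X).left (σ.left z) ∈ _
    rw [← Scheme.Hom.comp_apply, ← Over.comp_left, hσ₁]
    exact h)
  rwa [← Scheme.Hom.comp_apply, ← Over.comp_left, hσ₂] at this
where
  isPullback_prod (P Q : Over S) : IsPullback (fst P Q) (snd P Q) (toUnit P) (toUnit Q) := by
    exact IsPullback.of_isLimit_binaryFan_of_isTerminal (tensorProductIsBinaryProduct P Q) isTerminalTensorUnit
  exists_pt {P X₁ X₂ Z : Scheme.{u}} {p₁ : P ⟶ X₁} {p₂ : P ⟶ X₂} {f₁ : X₁ ⟶ Z} {f₂ : X₂ ⟶ Z}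
      (sq : IsPullback p₁ p₂ f₁ f₂) (x₁ : X₁) (x₂ : X₂) (h : f₁ x₁ = f₂ x₂) : ∃ p, p₁ p = x₁ ∧ p₂ p = x₂ := by
    obtain ⟨q, hq₁, hq₂⟩ := Scheme.Pullback.exists_preimage_pullback x₁ x₂ h
    refine ⟨sq.isoPullback.inv q, ?_, ?_⟩
    · rw [← Scheme.Hom.comp_apply, sq.isoPullback_inv_fst]; exact hq₁
    · rw [← Scheme.Hom.comp_apply, sq.isoPullback_inv_snd]; exact hq₂

end Groth.Agent.GitSS
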