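import Groth.Agent.GitSSLib.Quot
import Groth.Agent.RedQuotLib.Geom
import Groth.Agent.GitQuot.Univ

/-!
# The geometric quotient of the stable locus
-/

set_option autoImplicit false
set_option backward.isDefEq.respectTransparency false
set_option backward.isDefEq.respectTransparency.types false
set_option linter.style.haveILetI false

noncomputable section

universe u

open CategoryTheory MonoidalCategory CartesianMonoidalCategory MonObj AlgebraicGeometry TopologicalSpace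

namespace Groth.Agent.GitSS

attribute [-instance] CategoryTheory.Hom.commGroup

variable {k : Type u} [Field k] {G X : Over (Spec (CommRingCat.of k))} [GrpObj G] {a : AlgGrp.Action G X}

/-- Closed orbits on an open give a closed action on invariant opens inside it. -/
theorem isClosedAction_of_closedOrbitsOn {X' : Over (Spec (CommRingCat.of k))} (a' : AlgGrp.Action G X')
    (j : X' ⟶ X) [IsOpenImmersion j.left] (ha : a'.act ≫ j = (G ◁ j) ≫ a.act) {O : X.left.Opens}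
    (hj : ∀ x, j.left x ∈ O) (hcl : GLinSh.ClosedOrbitsOn a O) : GIT.IsClosedAction a' := by
  intro Ω _ _ T eT f
  haveI : IsOpenImmersion (j ▷ T).left :=
    MorphismProperty.of_isPullback ((RedQuot.isPullback_whiskerRight j T).map (Over.forget _)) ‹IsOpenImmersion j.left›
  have hpsi : GIT.psi a' f ≫ (j ▷ T) = GIT.psi a (f ≫ j) := by
    rw [GIT.psi, GIT.psi, lift_whiskerRight, Category.assoc, ha, ← MonoidalCategory.whiskerLeft_comp_assoc]
  have hc := hcl Ω T eT (f ≫ j) (by rintro _ ⟨t, rfl⟩; exact hj _)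
  let W : (X ⊗ T).left.Opens := (fst X T).left ⁻¹ᵁ O
  have hmem : ∀ z, (j ▷ T).left z ∈ W := fun z => by
    show (fst X T).left ((j ▷ T).left z) ∈ O
    rw [← Scheme.Hom.comp_apply, ← Over.comp_left, whiskerRight_fst]
    exact hj _
  let m : ↥(X' ⊗ T).left → W := fun z => ⟨(j ▷ T).left z, hmem z⟩
  have hm : Continuous m := (j ▷ T).left.continuous.subtype_mk _
  have h : Set.range (GIT.psi a' f).left.base =
      m ⁻¹' ((fun p : W => (p : (X ⊗ T).left)) ⁻¹' Set.range (GIT.psi a (f ≫ j)).left.base) := by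
    ext z
    constructor
    · rintro ⟨w, rfl⟩
      refine ⟨w, ?_⟩
      show (GIT.psi a (f ≫ j)).left w = (j ▷ T).left ((GIT.psi a' f).left w)
      rw [← Scheme.Hom.comp_apply, ← Over.comp_left, hpsi]
    · rintro ⟨w, hw⟩
      refine ⟨w, (j ▷ T).left.isOpenEmbedding.injective ?_⟩
      rw [← hpsi, Over.comp_left] at hw
      exact hw
  rw [h]
  exact hc.preimage hm

variable {B : GLinSh.LinBun G a} {U : X.left.Opens}

/-- Nonvanishing loci of invariant sections are saturated for the quotient. -/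
theorem preimage_eq_of_invSection {Y : Over (Spec (CommRingCat.of k))} (aU : AlgGrp.Action G (Over.mk (U.ι ≫ X.hom)))
    (haU : aU.act ≫ jO U = (G ◁ jO U) ≫ a.act) (φ : Over.mk (U.ι ≫ X.hom) ⟶ Y) (hu : GIT.IsUnivCatQuot aU φ)
    {N : ℕ} {f₀ : Γ(B.V.left, ⊤)} (hf₀ : B.IsInvSection N f₀) {O : X.left.Opens}
    (hO : (O : Set X.left) = GLinSh.nonvanishing B.π f₀) {V : Y.left.Opens} (hV : φ.left ⁻¹ᵁ V = U.ι ⁻¹ᵁ O)
    (hN : 0 < N) {n : ℕ} (hn : 0 < n) {f : Γ(B.V.left, ⊤)} (hf : B.IsInvSection n f) {Of : X.left.Opens}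
    (hOf : (Of : Set X.left) = GLinSh.nonvanishing B.π f) :
    ∃ s : Γ(Y.left, V), φ.left ⁻¹ᵁ Y.left.basicOpen s = U.ι ⁻¹ᵁ (O ⊓ Of) := by
  have h1 : B.IsInvSection (N * n) (f₀ ^ n) := isInvSection_pow hf₀ n
  have h2 : B.IsInvSection (N * n) (f ^ N) := Nat.mul_comm n N ▸ isInvSection_pow hf N
  have hsub : (O : Set X.left) ⊆ GLinSh.nonvanishing B.π (f₀ ^ n) := by rw [nonvanishing_pow _ hn, hO]
  obtain ⟨r, hr⟩ := exists_ratio h1.1 h2.1 hsub
  have hb : X.left.basicOpen r = O ⊓ Of := by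
    ext x
    simp only [SetLike.mem_coe, Opens.mem_inf]
    constructor
    · intro hx
      refine ⟨X.left.basicOpen_le _ hx, ?_⟩
      rw [← SetLike.mem_coe, hOf, ← nonvanishing_pow f hN]
      exact (mem_nonvanishing_iff_of_ratio B h1.1 hsub hr (X.left.basicOpen_le _ hx)).2 hx
    · rintro ⟨hxO, hx⟩
      rw [← SetLike.mem_coe, hOf, ← nonvanishing_pow f hN] at hx
      exact (mem_nonvanishing_iff_of_ratio B h1.1 hsub hr hxO).1 hx
  have hinv := invOn_ratio h1 h2 hsub hr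
  let O' := φ.left ⁻¹ᵁ V
  let t : Γ((Over.mk (U.ι ≫ X.hom)).left, O') := U.ι.appLE O O' hV.le r
  have ht : GIT.IsInvSection aU φ V t := by
    let j := (G ◁ jO U).left
    let q : (G ⊗ Over.mk (U.ι ≫ X.hom)).left ⟶ U.toScheme := aU.act.left
    let p : (G ⊗ Over.mk (U.ι ≫ X.hom)).left ⟶ U.toScheme := (snd G (Over.mk (U.ι ≫ X.hom))).left
    have hq : j ≫ a.act.left = q ≫ U.ι := (congrArg CommaMorphism.left haU).symm
    have hp : j ≫ (snd G X).left = p ≫ U.ι := congrArg CommaMorphism.left (whiskerLeft_snd G (jO U))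
    let P := q ⁻¹ᵁ O' ⊓ p ⁻¹ᵁ O'
    let P' : (G ⊗ X).left.Opens := a.act.left ⁻¹ᵁ O ⊓ (snd G X).left ⁻¹ᵁ O
    have h1 : P ≤ (q ≫ U.ι) ⁻¹ᵁ O := inf_le_left.trans (q.preimage_mono hV.le)
    have h2 : P ≤ (p ≫ U.ι) ⁻¹ᵁ O := inf_le_right.trans (p.preimage_mono hV.le)
    have hP : P ≤ j ⁻¹ᵁ P' := fun z hz => by
      refine ⟨?_, ?_⟩
      · show a.act.left (j z) ∈ O
        rw [← Scheme.Hom.comp_apply, hq]; exact h1 hz
      · show (snd G X).left (j z) ∈ O
        rw [← Scheme.Hom.comp_apply, hp]; exact h2 hz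
    show q.appLE O' P inf_le_left t = p.appLE O' P inf_le_right t
    rw [appLE_of_comp q U.ι hV.le inf_le_left r _ rfl h1, appLE_of_comp p U.ι hV.le inf_le_right r _ rfl h2,
      ← appLE_of_comp j a.act.left (P := P') inf_le_left hP r _ hq h1,
      ← appLE_of_comp j (snd G X).left (P := P') inf_le_right hP r _ hp h2, hinv.appLE P' inf_le_left inf_le_right]
  obtain ⟨s, hs⟩ := (Set.ext_iff.1 (GitQuot.sections_of_isUnivCatQuot aU φ hu V).2 t).2 ht
  refine ⟨s, ?_⟩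
  rw [Scheme.preimage_basicOpen, hs, ← hb]
  show U.toScheme.basicOpen (U.ι.appLE O O' hV.le r) = _
  rw [Scheme.Hom.appLE, CommRingCat.comp_apply, Scheme.basicOpen_res, ← Scheme.preimage_basicOpen]
  refine inf_eq_right.2 ?_
  show U.ι ⁻¹ᵁ X.left.basicOpen r ≤ φ.left ⁻¹ᵁ V
  rw [hV]
  exact U.ι.preimage_mono (X.left.basicOpen_le r)

/-- The stable locus has a geometric quotient, an open of the quotient of the semi-stable locus. -/
theorem exists_open_geom {A : Type u} [CommRing A] [HopfAlgebra k A] (hA : HopfRep.IsLinearlyReductive k A)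
    (e : CoactBr.sp k A ≅ G) [IsMonHom e.hom] (hU : (U : Set X.left) = B.ssLocus)
    (aU : AlgGrp.Action G (Over.mk (U.ι ≫ X.hom))) (haU : aU.act ≫ jO U = (G ◁ jO U) ≫ a.act)
    {Y : Over (Spec (CommRingCat.of k))} (φ : Over.mk (U.ι ≫ X.hom) ⟶ Y) (hu : GIT.IsUnivCatQuot aU φ)
    (hsubm : GIT.IsUnivSubmersive φ.left) {N : ℕ} (hN : 0 < N)
    (hloc : ∀ y : Y.left, ∃ (V : Y.left.Opens) (O : X.left.Opens) (f : Γ(B.V.left, ⊤)),
      y ∈ V ∧ IsAffineOpen V ∧ B.IsInvSection N f ∧ (O : Set X.left) = GLinSh.nonvanishing B.π f ∧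
      IsAffineOpen O ∧ φ.left ⁻¹ᵁ V = U.ι ⁻¹ᵁ O)
    (Us : X.left.Opens) (hUs : (Us : Set X.left) = B.sLocus) (hle : Us ≤ U)
    (aS : AlgGrp.Action G (Over.mk (Us.ι ≫ X.hom))) (haS : aS.act ≫ jO Us = (G ◁ jO Us) ≫ a.act) :
    ∃ (Yt : Y.left.Opens) (φs : Over.mk (Us.ι ≫ X.hom) ⟶ Over.mk (Yt.ι ≫ Y.hom)),
      φs.left ≫ Yt.ι = X.left.homOfLE hle ≫ φ.left ∧
      φ.left ⁻¹ᵁ Yt = U.ι ⁻¹ᵁ Us ∧
      GIT.IsUnifGeomQuot aS φs := by
  classical
  have hsurj := GitQuot.surjective_of_isUnivCatQuot aU φ hu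
  let good : Y.left.Opens → Prop := fun Z => IsAffineOpen Z ∧ φ.left ⁻¹ᵁ Z ≤ U.ι ⁻¹ᵁ Us ∧
    IsAffineOpen (φ.left ⁻¹ᵁ Z) ∧ ∃ Of : X.left.Opens, φ.left ⁻¹ᵁ Z ≤ U.ι ⁻¹ᵁ Of ∧ GLinSh.ClosedOrbitsOn a Of
  have hgood : ∀ x : U, x.1 ∈ Us → ∃ Z, good Z ∧ φ.left x ∈ Z := by
    intro x hx
    have hx' : B.IsStablePt x.1 := by
      have h : x.1 ∈ (Us : Set X.left) := hx
      rw [hUs] at h; exact h
    obtain ⟨n, f, hn, hf, hxf, Of, hOf, hOfa, hcl⟩ := hx'
    obtain ⟨V, O, f₀, hyV, hV, hf₀, hO, hOa, hpre⟩ := hloc (φ.left x)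
    obtain ⟨s, hs⟩ := preimage_eq_of_invSection aU haU φ hu hf₀ hO hpre hN hn hf hOf
    have hOfU : Of ≤ Us := fun z hz => by
      rw [← SetLike.mem_coe, hUs]
      exact ⟨n, f, hn, hf, hOf.subset hz, Of, hOf, hOfa, hcl⟩
    refine ⟨Y.left.basicOpen s, ⟨hV.basicOpen s, ?_, ?_, Of, ?_, hcl⟩, ?_⟩
    · rw [hs]; exact U.ι.preimage_mono (inf_le_right.trans hOfU)
    · rw [Scheme.preimage_basicOpen]
      refine IsAffineOpen.basicOpen ?_ _
      rw [hpre]
      refine hOa.preimage_of_isOpenImmersion _ (fun z hz => ?_)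
      rw [Scheme.Opens.opensRange_ι, ← SetLike.mem_coe, hU]
      exact ⟨N, f₀, hN, hf₀, hO.subset hz, O, hO, hOa⟩
    · rw [hs]; exact U.ι.preimage_mono inf_le_right
    · show x ∈ φ.left ⁻¹ᵁ Y.left.basicOpen s
      rw [hs]
      exact ⟨hpre.le hyV, hOf.symm.subset hxf⟩
  let Yt : Y.left.Opens := ⨆ Z : {Z // good Z}, Z.1
  have hYt : φ.left ⁻¹ᵁ Yt = U.ι ⁻¹ᵁ Us := by
    refine le_antisymm (fun x hx => ?_) fun x hx => ?_
    · obtain ⟨⟨Z, hZ⟩, hxZ⟩ := Opens.mem_iSup.1 (show φ.left x ∈ Yt from hx)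
      exact hZ.2.1 hxZ
    · obtain ⟨Z, hZ, hxZ⟩ := hgood x hx
      exact Opens.mem_iSup.2 ⟨⟨Z, hZ⟩, hxZ⟩
  let ju : Over.mk (Us.ι ≫ X.hom) ⟶ Over.mk (U.ι ≫ X.hom) := Over.homMk (X.left.homOfLE hle) (by simp)
  have hju : ju ≫ jO U = jO Us := Over.OverMorphism.ext (X.left.homOfLE_ι hle)
  haveI : IsOpenImmersion ju.left := inferInstanceAs (IsOpenImmersion (X.left.homOfLE hle))
  haveI : Mono (jO U).left := inferInstanceAs (Mono U.ι)
  haveI : Mono (jO U) := Over.mono_of_mono_left _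
  have haju : aS.act ≫ ju = (G ◁ ju) ≫ aU.act := by
    rw [← cancel_mono (jO U), Category.assoc, hju, haS, Category.assoc, haU, ← MonoidalCategory.whiskerLeft_comp_assoc,
      hju]
  have hr : Set.range (X.left.homOfLE hle ≫ φ.left) ⊆ Set.range Yt.ι := by
    rw [Scheme.Opens.range_ι]
    rintro _ ⟨x, rfl⟩
    refine hYt.ge ?_
    show U.ι (X.left.homOfLE hle x) ∈ Us
    rw [← Scheme.Hom.comp_apply, X.left.homOfLE_ι]
    exact x.2
  let φs : Over.mk (Us.ι ≫ X.hom) ⟶ Over.mk (Yt.ι ≫ Y.hom) :=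
    Over.homMk (IsOpenImmersion.lift Yt.ι (X.left.homOfLE hle ≫ φ.left) hr) (by
      show _ ≫ Yt.ι ≫ Y.hom = Us.ι ≫ X.hom
      rw [IsOpenImmersion.lift_fac_assoc, Category.assoc, Over.w φ]
      exact X.left.homOfLE_ι_assoc hle _)
  have hφs : φs.left ≫ Yt.ι = X.left.homOfLE hle ≫ φ.left := IsOpenImmersion.lift_fac _ _ _
  haveI : IsOpenImmersion (RedQuot.resG (Y := Y) Yt).left := inferInstanceAs (IsOpenImmersion Yt.ι)
  have sqL : IsPullback φs.left ju.left (RedQuot.resG (Y := Y) Yt).left φ.left :=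
    IsOpenImmersion.isPullback φs.left ju.left (RedQuot.resG (Y := Y) Yt).left φ.left hφs.symm (by
      show φ.left ⁻¹ᵁ Yt.ι.opensRange = (X.left.homOfLE hle).opensRange
      rw [Scheme.Opens.opensRange_ι, hYt, Scheme.opensRange_homOfLE])
  have sq : IsPullback ju φs φ (RedQuot.resG (Y := Y) Yt) :=
    IsPullback.of_map (Over.forget _) (Over.OverMorphism.ext hφs.symm) sqL.flip
  haveI : Mono (RedQuot.resG (Y := Y) Yt) := Over.mono_of_mono_left _
  have hi : GIT.IsInvariant aS φs := by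
    show aS.act ≫ φs = snd G _ ≫ φs
    rw [← cancel_mono (RedQuot.resG (Y := Y) Yt), Category.assoc, Category.assoc, ← sq.w, ← Category.assoc, haju,
      Category.assoc, hu.1.1, whiskerLeft_snd_assoc]
  refine ⟨Yt, φs, hφs, hYt, ?_⟩
  have hus := GitQuot.isUnivCatQuot_baseChange aU φ hu sq aS haju hi
  have hsubm' : GIT.IsUnivSubmersive φs.left := fun X₁ Y₁ i₁ i₂ g hg =>
    hsubm (i₁ ≫ ju.left) (i₂ ≫ (RedQuot.resG (Y := Y) Yt).left) g (hg.paste_vert (sq.map (Over.forget _)).flip)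
  have horb : Function.Surjective (GIT.PsiY aS φs hus.1.1).base := by
    intro p
    obtain ⟨⟨Z, hZ⟩, hpZ⟩ := Opens.mem_iSup.1 (φs.left (Limits.pullback.fst φs.left φs.left p)).2
    obtain ⟨hZa, hZle, hZpre, Of, hOfle, hcl⟩ := id hZ
    let Z' : (Over.mk (Yt.ι ≫ Y.hom)).left.Opens := Yt.ι ⁻¹ᵁ Z
    have hZ' : IsAffineOpen Z' := hZa.preimage_of_isOpenImmersion _ (by
      rw [Scheme.Opens.opensRange_ι]
      exact le_iSup (fun Z : {Z // good Z} => Z.1) ⟨Z, hZ⟩)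
    have hD : φs.left ⁻¹ᵁ Z' = (X.left.homOfLE hle) ⁻¹ᵁ (φ.left ⁻¹ᵁ Z) := by
      rw [← Scheme.Hom.comp_preimage, ← Scheme.Hom.comp_preimage, hφs]
    haveI : IsAffine (RedQuot.resY Z').left := hZ'
    haveI : IsAffine (RedQuot.resX φs Z').left := by
      show IsAffine (φs.left ⁻¹ᵁ Z').toScheme
      rw [hD]
      refine hZpre.preimage_of_isOpenImmersion _ ?_
      rw [Scheme.opensRange_homOfLE, ← hYt]
      exact φ.left.preimage_mono (le_iSup (fun Z : {Z // good Z} => Z.1) ⟨Z, hZ⟩)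
    obtain ⟨a'', ha'', hi''⟩ := GitQuot.exists_action aS hi (RedQuot.isPullback_res φs Z')
    obtain ⟨hinjU, hrangeU⟩ := GitQuot.sections_of_isUnivCatQuot aS φs hus Z'
    obtain ⟨hinj'', hrange''⟩ := RedQuot.functions_resMap aS φs Z' a'' ha'' hi'' hinjU hrangeU.ge
    haveI : IsOpenImmersion (RedQuot.resPr φs Z' ≫ jO Us).left :=
      inferInstanceAs (IsOpenImmersion ((φs.left ⁻¹ᵁ Z').ι ≫ Us.ι))
    have hclosed : GIT.IsClosedAction a'' := by
      refine isClosedAction_of_closedOrbitsOn a'' (RedQuot.resPr φs Z' ≫ jO Us) ?_ (fun x => ?_) hcl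
      · rw [← Category.assoc, ha'', Category.assoc, haS, MonoidalCategory.whiskerLeft_comp_assoc]
      · show Us.ι ((φs.left ⁻¹ᵁ Z').ι x) ∈ Of
        have hx : (φs.left ⁻¹ᵁ Z').ι x ∈ φs.left ⁻¹ᵁ Z' := x.2
        have := hOfle (show X.left.homOfLE hle ((φs.left ⁻¹ᵁ Z').ι x) ∈ φ.left ⁻¹ᵁ Z from hD.le hx)
        exact (congrArg (fun g : Us.toScheme ⟶ X.left => g ((φs.left ⁻¹ᵁ Z').ι x)) (X.left.homOfLE_ι hle)) ▸ this
    have hs := RedQuot.surjective_psiY hA e a'' (RedQuot.resMap φs Z') hi'' hinj'' hrange'' hclosed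
    let m : Limits.pullback (φs.left ∣_ Z') (φs.left ∣_ Z') ⟶ Limits.pullback φs.left φs.left :=
      Limits.pullback.map _ _ _ _ (φs.left ⁻¹ᵁ Z').ι (φs.left ⁻¹ᵁ Z').ι Z'.ι
        (morphismRestrict_ι _ _) (morphismRestrict_ι _ _)
    have hpm : p ∈ Set.range m := by
      rw [Scheme.Pullback.range_map]
      refine ⟨?_, ?_⟩
      · show Limits.pullback.fst φs.left φs.left p ∈ Set.range (φs.left ⁻¹ᵁ Z').ι
        rw [Scheme.Opens.range_ι]
        exact hpZ
      · show Limits.pullback.snd φs.left φs.left p ∈ Set.range (φs.left ⁻¹ᵁ Z').ι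
        rw [Scheme.Opens.range_ι]
        show φs.left (Limits.pullback.snd φs.left φs.left p) ∈ Z'
        rw [← Scheme.Hom.comp_apply, ← Limits.pullback.condition, Scheme.Hom.comp_apply]
        exact hpZ
    obtain ⟨p', rfl⟩ := hpm
    obtain ⟨z, rfl⟩ := hs p'
    refine ⟨(G ◁ RedQuot.resPr φs Z').left z, ?_⟩
    show (GIT.PsiY aS φs hus.1.1) ((G ◁ RedQuot.resPr φs Z').left z) = m (GIT.PsiY a'' (RedQuot.resMap φs Z') hi'' z)
    refine ((Scheme.Hom.comp_apply _ _ _).symm.trans ?_).trans (Scheme.Hom.comp_apply _ _ _)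
    refine congrArg (fun g : (G ⊗ RedQuot.resX φs Z').left ⟶ Limits.pullback φs.left φs.left => g z) ?_
    apply Limits.pullback.hom_ext
    · simp only [Category.assoc, m, GIT.PsiY, Limits.pullback.lift_fst, Limits.pullback.lift_fst_assoc,
        Limits.pullback.map]
      erw [← Category.assoc, Limits.pullback.lift_fst]
      exact congrArg CommaMorphism.left ha''.symm
    · simp only [Category.assoc, m, GIT.PsiY, Limits.pullback.lift_snd, Limits.pullback.lift_snd_assoc,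
        Limits.pullback.map]
      exact (congrArg CommaMorphism.left (whiskerLeft_snd G (RedQuot.resPr φs Z'))).trans
        (Limits.pullback.lift_snd_assoc _ _ _ _).symm
  have hg := (GitQuot.univCatQuot_properties aS φs hus).2.2.2 ⟨hsubm', horb⟩
  exact ⟨hg.1, fun X' Y' pr φ' g _ => hg.2 pr φ' g trivial⟩

end Groth.Agent.GitSS
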