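import Groth.Agent.GitSSLib.Stable

/-!
# Categorical quotients are unique
-/

set_option autoImplicit false
set_option backward.isDefEq.respectTransparency false
set_option backward.isDefEq.respectTransparency.types false

noncomputable section

universe u

open CategoryTheory MonoidalCategory CartesianMonoidalCategory MonObj AlgebraicGeometry TopologicalSpace

namespace Groth.Agent.GitSS

variable {S : Scheme.{u}} {G X Y₀ Y : Over S} [GrpObj G]

/-- Two categorical quotients differ by an isomorphism. -/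
theorem exists_iso_of_isCatQuot (a : AlgGrp.Action G X) (φ₀ : X ⟶ Y₀) (φ : X ⟶ Y) (h₀ : GIT.IsCatQuot a φ₀)
    (h : GIT.IsCatQuot a φ) : ∃ χ : Y₀ ≅ Y, φ₀ ≫ χ.hom = φ := by
  obtain ⟨χ, hχ, -⟩ := h₀.2 Y φ h.1
  obtain ⟨χ', hχ', -⟩ := h.2 Y₀ φ₀ h₀.1
  exact ⟨⟨χ, χ', (h₀.2 Y₀ φ₀ h₀.1).unique (by rw [← Category.assoc, hχ, hχ']) (Category.comp_id _),
    (h.2 Y φ h.1).unique (by rw [← Category.assoc, hχ', hχ]) (Category.comp_id _)⟩, hχ⟩

/-- Universality does not depend on the choice of the quotient. -/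
theorem univ_of_iso (a : AlgGrp.Action G X) (φ₀ : X ⟶ Y₀) (φ : X ⟶ Y) (h₀ : GIT.IsUnivCatQuot a φ₀)
    (hs : GIT.IsUnivSubmersive φ₀.left) (h : GIT.IsCatQuot a φ) (χ : Y₀ ≅ Y) (hχ : φ₀ ≫ χ.hom = φ) :
    GIT.IsUnivCatQuot a φ ∧ GIT.IsUnivSubmersive φ.left := by
  subst hχ
  refine ⟨⟨h, fun X' Y' pr φ' g _ sq a' ha hi => h₀.2 pr φ' (g ≫ χ.inv) trivial ?_ a' ha hi⟩, ?_⟩
  · refine IsPullback.of_iso sq (Iso.refl _) (Iso.refl _) (Iso.refl _) χ.symm ?_ ?_ ?_ ?_ <;> simp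
  · intro X₁ Y₁ i₁ i₂ f hf
    refine hs i₁ (i₂ ≫ χ.inv.left) f ?_
    let e : Y₀.left ≅ Y.left := (Over.forget S).mapIso χ
    refine IsPullback.of_iso hf (Iso.refl _) (Iso.refl _) (Iso.refl _) e.symm ?_ ?_ ?_ ?_ <;>
      simp [e, ← Over.comp_left]

end Groth.Agent.GitSS
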